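import Cfsg.Agent.Chevalley.CommData
import Cfsg.Agent.Chevalley.WeylData
import Cfsg.Agent.Chevalley.Monomial
import Cfsg.Prelude.Def_ChevAutomorphisms
/-!
Subgroups containing the monomial subgroup and a few fundamental root subgroups: which further
fundamental root subgroups they must contain. The step from one node to another is either a
conjugation (simply bonded nodes) or a commutator of two root elements conjugate to the given one.
-/

set_option autoImplicit false

namespace CfsgLib.ChevGen

open Cfsg.Lie CfsgLib.Chevalley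
open scoped MatrixGroups

variable {D : ChevalleyDatum}

/-- `w_p w_q` carries the fundamental root of node `p` to that of node `q`. -/
def bondStep (D : ChevalleyDatum) (p q : ℕ) : Bool :=
  reflT D p (reflT D q (D.simple p)) == D.simple q

/-- The commutator of `x_{w_q p}` and `x_{-p}` is `x_q` of `± c` times the product of the parameters. -/
def commStep (D : ChevalleyDatum) (c p q : ℕ) : Bool :=
  match D.commTerms (reflT D q (D.simple p)) (reflT D p (D.simple p)) with
  | [(k, C, a, b)] => k == D.simple q && C.natAbs == c && a == 1 && b == 1 &&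
      reflT D p (D.simple p) != reflT D q (D.simple p) &&
      reflT D p (D.simple p) != opp D (reflT D q (D.simple p))
  | _ => false

/-- One round of the closure on nodes. -/
def grow (D : ChevalleyDatum) (c : ℕ) (L : List ℕ) : List ℕ :=
  (List.range D.rank).filter fun q =>
    L.contains q || L.any fun p => decide (p < D.rank) && (bondStep D p q || commStep D c p q)

/-- The nodes reached from `L`. -/
def reach (D : ChevalleyDatum) (c : ℕ) : ℕ → List ℕ → List ℕ
  | 0, L => L
  | n + 1, L => reach D c n (grow D c L)

/-- All nodes are reached from `L`. -/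
def chkReach (D : ChevalleyDatum) (c : ℕ) (L : List ℕ) : Bool :=
  (List.range D.rank).all fun q => (reach D c D.rank L).contains q

section

variable {K : Type*} [Field K]

/-- The subgroup `M` contains the root subgroup of `r`. -/
def Has (hW : GoodWeyl D) (M : Subgroup (GL D.Idx K)) (r : Root D) : Prop :=
  ∀ t : K, X hW.good r t ∈ M

theorem has_wPerm (hW : GoodWeyl D) {M : Subgroup (GL D.Idx K)}
    (hN : D.monomialSubgroup K ≤ M) (i : Fin D.rank) {r : Root D} (h : Has hW M r) :
    Has hW M (wPerm hW i r) := by
  intro t
  have hn := hN (nR_mem_monomial (F := K) hW i)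
  have := mul_mem (mul_mem hn (h ((eta D i r : K) * t))) (inv_mem hn)
  rw [nR_conj hW i r, ← mul_assoc, ← Int.cast_mul, hW.eta_sq, Int.cast_one, one_mul] at this
  exact this

theorem wPerm_eq_reflT (hW : GoodWeyl D) (i : Fin D.rank) (s : Root D) :
    (wPerm hW i s : ℕ) = reflT D i s := rfl

theorem pRoot_val (hW : GoodWeyl D) (i : Fin D.rank) : (pRoot hW i : ℕ) = D.simple i := rfl

theorem has_of_bondStep (hW : GoodWeyl D) {M : Subgroup (GL D.Idx K)}
    (hN : D.monomialSubgroup K ≤ M) {p q : Fin D.rank} (h : Has hW M (pRoot hW p))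
    (hs : bondStep D p q = true) : Has hW M (pRoot hW q) := by
  have e : wPerm hW p (wPerm hW q (pRoot hW p)) = pRoot hW q := Fin.ext (by
    simpa [bondStep, wPerm_eq_reflT, pRoot_val] using hs)
  rw [← e]
  exact has_wPerm hW hN p (has_wPerm hW hN q h)

theorem has_of_commStep (hC : GoodComm D) (hW : GoodWeyl D) {M : Subgroup (GL D.Idx K)}
    (hN : D.monomialSubgroup K ≤ M) {c : ℕ} (hc : (c : K) ≠ 0) {p q : Fin D.rank}
    (h : Has hW M (pRoot hW p)) (hs : commStep D c p q = true) : Has hW M (pRoot hW q) := by
  have hr := has_wPerm hW hN q h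
  have hm := has_wPerm hW hN p h
  intro v
  rw [commStep] at hs
  revert hs
  split
  case h_2 => simp
  case h_1 k C a b heq =>
    intro hs
    simp only [Bool.and_eq_true, beq_iff_eq, bne_iff_ne] at hs
    obtain ⟨⟨⟨⟨⟨rfl, hC'⟩, rfl⟩, rfl⟩, hne1⟩, hne2⟩ := hs
    have hCK : (C : K) ≠ 0 := by
      rcases Int.natAbs_eq C with e | e <;> rw [e, hC'] <;> simpa using hc
    have hne1' : wPerm hW p (pRoot hW p) ≠ wPerm hW q (pRoot hW p) := fun e =>
      hne1 (congrArg (Fin.val) e)
    have hne2' : wPerm hW p (pRoot hW p) ≠ (wPerm hW q (pRoot hW p)).rev := fun e => hne2 (by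
      have := congrArg Fin.val e
      rw [← hW.good.neg_fin, hW.good.neg_eq (wPerm hW q (pRoot hW p)).isLt] at this
      exact this)
    have key := X_comm (R := K) hC (wPerm hW q (pRoot hW p)) (wPerm hW p (pRoot hW p)) hne1' hne2'
      (-1) ((C : K)⁻¹ * v)
    have hrhs : commRhs hC.good (wPerm hW q (pRoot hW p) : ℕ) (wPerm hW p (pRoot hW p) : ℕ)
        (-1) ((C : K)⁻¹ * v) = X hW.good (pRoot hW q) v := by
      rw [commRhs, wPerm_eq_reflT, wPerm_eq_reflT, pRoot_val, heq]
      simp only [List.map_cons, List.map_nil, wordGL, List.prod_cons, List.prod_nil, mul_one,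
        neg_neg, pow_one]
      rw [dif_pos (hW.good.simple_lt q.isLt), mul_inv_cancel_left₀ hCK]
      rfl
    have hmem : commRhs hC.good (wPerm hW q (pRoot hW p) : ℕ) (wPerm hW p (pRoot hW p) : ℕ)
        (-1) ((C : K)⁻¹ * v) ∈ M := by
      rw [eq_inv_mul_of_mul_eq key.symm]
      exact mul_mem (inv_mem (mul_mem (hr _) (hm _))) (mul_mem (hm _) (hr _))
    rwa [hrhs] at hmem

theorem has_reach (hC : GoodComm D) (hW : GoodWeyl D) {M : Subgroup (GL D.Idx K)}
    (hN : D.monomialSubgroup K ≤ M) {c : ℕ} (hc : (c : K) ≠ 0) (n : ℕ) :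
    ∀ L : List ℕ, (∀ p : Fin D.rank, (p : ℕ) ∈ L → Has hW M (pRoot hW p)) →
      ∀ p : Fin D.rank, (p : ℕ) ∈ reach D c n L → Has hW M (pRoot hW p) := by
  induction n with
  | zero => exact fun L h => h
  | succ n ih =>
    intro L h
    refine ih (grow D c L) fun q hq => ?_
    simp only [grow, List.mem_filter, Bool.or_eq_true, List.contains_iff_mem, List.any_eq_true,
      Bool.and_eq_true, decide_eq_true_eq] at hq
    rcases hq.2 with hq | ⟨p, hp, hlt, hs | hs⟩
    · exact h q hq
    · exact has_of_bondStep hW hN (h ⟨p, hlt⟩ hp) hs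
    · exact has_of_commStep hC hW hN hc (h ⟨p, hlt⟩ hp) hs

/-- A subgroup containing `N` and the root subgroups of nodes reaching all nodes contains the group. -/
theorem group_le_of_chkReach (hC : GoodComm D) (hW : GoodWeyl D) {M : Subgroup (GL D.Idx K)}
    (hN : D.monomialSubgroup K ≤ M) {c : ℕ} (hc : (c : K) ≠ 0) {L : List ℕ}
    (hchk : chkReach D c L = true) (hL : ∀ p ∈ L, D.rootSubgroup K (D.simple p) ≤ M) :
    D.group K ≤ M := by
  have hall : ∀ r : Root D, Has hW M r := by
    refine hW.root_induction (fun q => ?_) (fun i r h => has_wPerm hW hN i h)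
    simp only [chkReach, List.all_eq_true, List.mem_range, List.contains_iff_mem] at hchk
    exact has_reach hC hW hN hc _ L
      (fun p hp t => hL p hp (X_mem_rootSubgroup hW.good (pRoot hW p) t)) q (hchk q q.isLt)
  rw [group_eq_closure hW.good, Subgroup.closure_le]
  rintro _ ⟨r, t, rfl⟩
  exact hall r t

end

/-- The check for every short node. -/
def chkShort (D : ChevalleyDatum) (c : ℕ) : Bool :=
  (List.range D.rank).all fun i => D.isLong (D.simple i) || chkReach D c [i]

/-- The check for every pair of a short and a long node. -/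
def chkPair (D : ChevalleyDatum) : Bool :=
  (List.range D.rank).all fun i => (List.range D.rank).all fun j =>
    D.isLong (D.simple i) || !D.isLong (D.simple j) || chkReach D 1 [i, j]

theorem chevG2_short : chkShort chevG2 3 = true := by decide +kernel
theorem chevB2_short : chkShort chevB2 2 = true := by decide +kernel
theorem chevD4_short : chkShort chevD4 1 = true := by decide +kernel
theorem chevF4_short : chkShort chevF4 2 = true := by decide +kernel
theorem chevE6_short : chkShort chevE6 1 = true := by decide +kernel
theorem chevE7_short : chkShort chevE7 1 = true := by decide +kernel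
theorem chevE8_short : chkShort chevE8 1 = true := by decide +kernel

theorem chevG2_pair : chkPair chevG2 = true := by decide +kernel
theorem chevB2_pair : chkPair chevB2 = true := by decide +kernel
theorem chevF4_pair : chkPair chevF4 = true := by decide +kernel

theorem group_le_of_chkShort {D : ChevalleyDatum}
    (hD : D ∈ [chevG2, chevB2, chevD4, chevF4, chevE6, chevE7, chevE8]) {K : Type*} [Field K]
    {c : ℕ} (hchk : chkShort D c = true) (hc : (c : K) ≠ 0) {i : ℕ} (hi : i < D.rank)
    (hshort : D.isLong (D.simple i) = false) :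
    D.group K ≤ D.monomialSubgroup K ⊔ D.rootSubgroup K (D.simple i) := by
  simp only [chkShort, List.all_eq_true, List.mem_range] at hchk
  have h := hchk i hi
  rw [hshort, Bool.false_or] at h
  refine group_le_of_chkReach (goodComm_of_mem hD) (goodWeyl_of_mem hD) le_sup_left hc h ?_
  intro p hp
  rw [List.mem_singleton.1 hp]
  exact le_sup_right

theorem group_le_of_chkPair {D : ChevalleyDatum}
    (hD : D ∈ [chevG2, chevB2, chevD4, chevF4, chevE6, chevE7, chevE8]) {K : Type*} [Field K]
    (hchk : chkPair D = true) {i j : ℕ} (hi : i < D.rank) (hj : j < D.rank)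
    (hshort : D.isLong (D.simple i) = false) (hlong : D.isLong (D.simple j) = true) :
    D.group K ≤ D.monomialSubgroup K ⊔ D.rootSubgroup K (D.simple i) ⊔
      D.rootSubgroup K (D.simple j) := by
  simp only [chkPair, List.all_eq_true, List.mem_range] at hchk
  have h := hchk i hi j hj
  rw [hshort, hlong, Bool.not_true, Bool.false_or, Bool.false_or] at h
  refine group_le_of_chkReach (c := 1) (goodComm_of_mem hD) (goodWeyl_of_mem hD)
    (le_sup_left.trans le_sup_left) (by simp) h ?_
  intro p hp
  rcases List.mem_pair.1 hp with rfl | rfl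
  · exact le_sup_right.trans le_sup_left
  · exact le_sup_right

end CfsgLib.ChevGen
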