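import Cfsg.Agent.ChevGen.Monomial
import Cfsg.Agent.Chevalley.Bruhat
import Mathlib.FieldTheory.Finite.Basic
/-!
Two generators for a tabulated Chevalley group. A subgroup containing a product of fundamental
reflection elements and one or two root subgroups contains the group as soon as a certificate of
conjugations and commutator steps reaches all fundamental roots and their negatives.
-/

set_option autoImplicit false

namespace CfsgLib.ChevGen

open Cfsg.Lie CfsgLib.Chevalley
open scoped MatrixGroups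

variable {D : ChevalleyDatum}

/-- The image of a root under the product of all fundamental reflections. -/
def wCox (D : ChevalleyDatum) (s : ℕ) : ℕ :=
  (List.range D.rank).foldr (fun i x => reflT D i x) s

/-- The power of that product. -/
def wCoxPow (D : ChevalleyDatum) : ℕ → ℕ → ℕ
  | 0, s => s
  | m + 1, s => wCox D (wCoxPow D m s)

/-- The root obtained by one step of a certificate from the known roots. -/
def stepRoot (D : ChevalleyDatum) (c : ℕ) (known : List ℕ) : ℕ × Option ℕ → Option ℕ
  | (r, none) => bif known.contains r then some (wCox D r) else none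
  | (r, some s) =>
    match D.commTerms r s with
    | [(k, C, a, b)] =>
      bif known.contains r && known.contains s && s != r && s != opp D r &&
          (C.natAbs == 1 || C.natAbs == c) && a == 1 && b == 1 && decide (k < D.nroots)
        then some k else none
    | _ => none

/-- The roots known after running a certificate. -/
def derive (D : ChevalleyDatum) (c : ℕ) : List (ℕ × Option ℕ) → List ℕ → List ℕ
  | [], known => known
  | st :: rest, known =>
    match stepRoot D c known st with
    | some k => derive D c rest (k :: known)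
    | none => derive D c rest known

/-- All fundamental roots and their negatives are known. -/
def chkFull (D : ChevalleyDatum) (known : List ℕ) : Bool :=
  (List.range D.rank).all fun i =>
    known.contains (D.simple i) && known.contains (opp D (D.simple i))

section

variable {K : Type*} [Field K]

/-- Every known index is a root whose root subgroup lies in `H`. -/
def HasAll (hW : GoodWeyl D) (H : Subgroup (GL D.Idx K)) (known : List ℕ) : Prop :=
  ∀ r : Root D, (r : ℕ) ∈ known → Has hW H r

/-- The product of the fundamental reflection elements. -/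
def coxEl (hW : GoodWeyl D) : GL D.Idx K :=
  ((List.finRange D.rank).map fun i => nR hW i).prod

/-- The product of the fundamental reflections. -/
def coxPerm (hW : GoodWeyl D) : Equiv.Perm (Root D) :=
  ((List.finRange D.rank).map fun i => wPerm hW i).prod

theorem monBy_coxEl (hW : GoodWeyl D) : MonBy hW (coxEl hW : GL D.Idx K) (coxPerm hW) := by
  rw [coxEl, coxPerm]
  induction (List.finRange D.rank) with
  | nil => exact MonBy.one hW
  | cons i L ih =>
    rw [List.map_cons, List.map_cons, List.prod_cons, List.prod_cons]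
    exact (monBy_nR hW i).mul ih

theorem coxPerm_val (hW : GoodWeyl D) (s : Root D) : (coxPerm hW s : ℕ) = wCox D s := by
  rw [coxPerm, wCox, ← List.map_coe_finRange_eq_range]
  induction (List.finRange D.rank) with
  | nil => rfl
  | cons i L ih =>
    rw [List.map_cons, List.prod_cons, Equiv.Perm.mul_apply, List.map_cons, List.foldr_cons,
      wPerm_eq_reflT, ih]

theorem coxPerm_pow_val (hW : GoodWeyl D) (m : ℕ) (s : Root D) :
    ((coxPerm hW ^ m) s : ℕ) = wCoxPow D m s := by
  induction m with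
  | zero => rfl
  | succ m ih => rw [pow_succ', Equiv.Perm.mul_apply, coxPerm_val, ih]; rfl

theorem coxEl_mem_group (hW : GoodWeyl D) : (coxEl hW : GL D.Idx K) ∈ D.group K := by
  refine Subgroup.list_prod_mem _ fun g hg => ?_
  obtain ⟨i, -, rfl⟩ := List.mem_map.1 hg
  exact nR_mem_group hW i

theorem coxEl_conj_hT (hW : GoodWeyl D) (r : Root D) (t : Kˣ) :
    coxEl hW * hT K r t * (coxEl hW)⁻¹ = hT K (coxPerm hW r) t := by
  rw [coxEl, coxPerm]
  induction (List.finRange D.rank) generalizing r with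
  | nil => simp
  | cons i L ih =>
    simp only [List.map_cons, List.prod_cons, Equiv.Perm.mul_apply]
    rw [← nR_conj_hT, ← ih]
    group

theorem coxEl_pow_conj_hT (hW : GoodWeyl D) (m : ℕ) (r : Root D) (t : Kˣ) :
    coxEl hW ^ m * hT K r t * (coxEl hW ^ m)⁻¹ = hT K ((coxPerm hW ^ m) r) t := by
  induction m with
  | zero => simp
  | succ m ih =>
    simp only [pow_succ', Equiv.Perm.mul_apply]
    rw [← coxEl_conj_hT, ← ih]
    group

theorem hT_conj_X (hW : GoodWeyl D) (r : Root D) (t : Kˣ) (s : Root D) (u : K) :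
    hT K r t * X hW.good s u * (hT K r t)⁻¹ =
      X hW.good s (((t ^ D.pairing r s : Kˣ) : K) * u) := by
  have key : ∀ L : List (Fin D.rank),
      (L.map fun k => hT K (pRoot hW k) (t ^ (D.coroot.getD r #[]).getD k 0)).prod *
          X hW.good s u *
          ((L.map fun k => hT K (pRoot hW k) (t ^ (D.coroot.getD r #[]).getD k 0)).prod)⁻¹ =
        X hW.good s (((t ^ (L.map fun k : Fin D.rank =>
          (D.coroot.getD r #[]).getD k 0 * D.cartan k s).sum : Kˣ) : K) * u) := by
    intro L
    induction L with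
    | nil => simp
    | cons k L ih =>
      simp only [List.map_cons, List.prod_cons, List.sum_cons]
      rw [mul_inv_rev, ← mul_assoc, mul_assoc (hT K _ _), mul_assoc (hT K _ _), ih,
        hT_pRoot_conj_X, zpow_add, Units.val_mul, mul_assoc, zpow_mul]
  rw [hT_eq_torC, torC_eq_prod hW, key, pairing_eq_sum, Fin.sum_univ_def]

theorem has_coxPerm (hW : GoodWeyl D) {H : Subgroup (GL D.Idx K)} (hw : coxEl hW ∈ H)
    {r : Root D} (h : Has hW H r) : Has hW H (coxPerm hW r) := by
  obtain ⟨c, hc⟩ := (monBy_coxEl (K := K) hW).conj_X r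
  intro t
  have := mul_mem (mul_mem hw (h ((c : K)⁻¹ * t))) (inv_mem hw)
  rwa [hc, mul_inv_cancel_left₀ c.ne_zero] at this

theorem hasAll_cons (hW : GoodWeyl D) {H : Subgroup (GL D.Idx K)} {known : List ℕ} {k : ℕ}
    (hk : ∀ hlt : k < D.nroots, Has hW H ⟨k, hlt⟩) (h : HasAll hW H known) :
    HasAll hW H (k :: known) := by
  intro r hr
  rcases List.mem_cons.1 hr with hr | hr
  · subst hr
    exact hk r.isLt
  · exact h r hr

theorem stepRoot_has (hC : GoodComm D) (hW : GoodWeyl D) {H : Subgroup (GL D.Idx K)}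
    (hw : coxEl hW ∈ H) {c : ℕ} (hc : (c : K) ≠ 0) {known : List ℕ}
    (hlt : ∀ r ∈ known, r < D.nroots) (h : HasAll hW H known) {st : ℕ × Option ℕ} {k : ℕ}
    (hst : stepRoot D c known st = some k) : ∃ hk : k < D.nroots, Has hW H ⟨k, hk⟩ := by
  obtain ⟨r, _ | s⟩ := st
  · simp only [stepRoot, Bool.cond_eq_ite, Option.ite_none_right_eq_some, List.contains_iff_mem,
      Option.some.injEq] at hst
    obtain ⟨hr, rfl⟩ := hst
    have e : wCox D r = (coxPerm hW ⟨r, hlt r hr⟩ : ℕ) := (coxPerm_val hW ⟨r, hlt r hr⟩).symm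
    refine ⟨e ▸ (coxPerm hW ⟨r, hlt r hr⟩).isLt, ?_⟩
    convert has_coxPerm hW hw (h ⟨r, hlt r hr⟩ hr) using 1
    exact Fin.ext e
  · simp only [stepRoot] at hst
    revert hst
    split
    case h_2 => simp
    case h_1 j C a b heq =>
      intro hst
      simp only [Bool.cond_eq_ite, Option.ite_none_right_eq_some, Option.some.injEq, Bool.and_eq_true,
        List.contains_iff_mem, bne_iff_ne, beq_iff_eq, Bool.or_eq_true, decide_eq_true_eq] at hst
      obtain ⟨⟨⟨⟨⟨⟨⟨⟨hr, hs⟩, hsr⟩, hsn⟩, hC'⟩, rfl⟩, rfl⟩, hj⟩, rfl⟩ := hst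
      refine ⟨hj, fun v => ?_⟩
      have hCK : (C : K) ≠ 0 := by
        rcases Int.natAbs_eq C with e | e <;> rw [e] <;> rcases hC' with e' | e' <;> rw [e'] <;>
          simp [hc]
      set R : Root D := ⟨r, hlt r hr⟩
      set S : Root D := ⟨s, hlt s hs⟩
      have hne1 : S ≠ R := fun e => hsr (congrArg Fin.val e)
      have hne2 : S ≠ R.rev := fun e => hsn (by
        have := congrArg Fin.val e
        rw [← hW.good.neg_fin, hW.good.neg_eq R.isLt] at this
        exact this)
      have key := X_comm (R := K) hC R S hne1 hne2 (-1) ((C : K)⁻¹ * v)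
      have hrhs : commRhs hC.good r s (-1) ((C : K)⁻¹ * v) = X hW.good ⟨j, hj⟩ v := by
        rw [commRhs, heq]
        simp only [List.map_cons, List.map_nil, wordGL, List.prod_cons, List.prod_nil, mul_one,
          neg_neg, pow_one]
        rw [dif_pos hj, mul_inv_cancel_left₀ hCK]
      have hmem : commRhs hC.good r s (-1) ((C : K)⁻¹ * v) ∈ H := by
        rw [eq_inv_mul_of_mul_eq key.symm]
        exact mul_mem (inv_mem (mul_mem (h R hr _) (h S hs _))) (mul_mem (h S hs _) (h R hr _))
      rwa [hrhs] at hmem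

theorem derive_has (hC : GoodComm D) (hW : GoodWeyl D) {H : Subgroup (GL D.Idx K)}
    (hw : coxEl hW ∈ H) {c : ℕ} (hc : (c : K) ≠ 0) (L : List (ℕ × Option ℕ)) :
    ∀ known : List ℕ, (∀ r ∈ known, r < D.nroots) → HasAll hW H known →
      (∀ r ∈ derive D c L known, r < D.nroots) ∧ HasAll hW H (derive D c L known) := by
  induction L with
  | nil => exact fun known h1 h2 => ⟨h1, h2⟩
  | cons st L ih =>
    intro known h1 h2
    simp only [derive]
    split
    · next k hk =>
      obtain ⟨hk1, hk2⟩ := stepRoot_has hC hW hw hc h1 h2 hk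
      exact ih _ (List.forall_mem_cons.2 ⟨hk1, h1⟩) (hasAll_cons hW (fun _ => hk2) h2)
    · exact ih _ h1 h2

theorem nR_mem_of_has (hW : GoodWeyl D) {H : Subgroup (GL D.Idx K)} (i : Fin D.rank)
    (h1 : Has hW H (pRoot hW i)) (h2 : Has hW H (pRoot hW i).rev) : nR hW i ∈ H :=
  mul_mem (mul_mem (h1 1) (h2 (-1))) (h1 1)

theorem group_le_of_chkFull (hW : GoodWeyl D) {H : Subgroup (GL D.Idx K)} {known : List ℕ}
    (h : HasAll hW H known) (hf : chkFull D known = true) : D.group K ≤ H := by
  simp only [chkFull, List.all_eq_true, List.mem_range, Bool.and_eq_true,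
    List.contains_iff_mem] at hf
  have h1 : ∀ i : Fin D.rank, Has hW H (pRoot hW i) := fun i => h _ (hf i i.isLt).1
  have hn : ∀ i : Fin D.rank, nR hW i ∈ H := fun i => nR_mem_of_has hW i (h1 i) (h _ (by
    rw [← hW.good.neg_fin, hW.good.neg_eq (pRoot hW i).isLt]
    exact (hf i i.isLt).2))
  have hall : ∀ r : Root D, Has hW H r := by
    refine hW.root_induction h1 fun i r hr t => ?_
    have := mul_mem (mul_mem (hn i) (hr ((eta D i r : K) * t))) (inv_mem (hn i))
    rw [nR_conj hW i r, ← mul_assoc, ← Int.cast_mul, hW.eta_sq, Int.cast_one, one_mul] at this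
    exact this
  rw [group_eq_closure hW.good, Subgroup.closure_le]
  rintro _ ⟨r, t, rfl⟩
  exact hall r t

theorem X_pow (hW : GoodWeyl D) (r : Root D) (t : K) (n : ℕ) :
    X hW.good r t ^ n = X hW.good r ((n : K) * t) := by
  induction n with
  | zero => simp [X_zero]
  | succ n ih => rw [pow_succ, ih, X_mul]; push_cast; ring_nf

/-- A root subgroup is reached from one non-trivial element by a torus element. -/
theorem has_of_torus (hW : GoodWeyl D) {H : Subgroup (GL D.Idx K)} {g : GL D.Idx K} (hg : g ∈ H)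
    {r : Root D} {κ c : K} (hconj : ∀ u, g * X hW.good r u * g⁻¹ = X hW.good r (κ * u))
    (hgen : ∀ t : K, t ≠ 0 → ∃ n : ℕ, t = κ ^ n) (hc : c ≠ 0) (hx : X hW.good r c ∈ H) :
    Has hW H r := by
  have hpow : ∀ n : ℕ, X hW.good r (κ ^ n * c) ∈ H := by
    intro n
    induction n with
    | zero => simpa using hx
    | succ n ih =>
      rw [pow_succ', mul_assoc, ← hconj]
      exact mul_mem (mul_mem hg ih) (inv_mem hg)
  intro t
  rcases eq_or_ne t 0 with rfl | ht
  · rw [X_zero]; exact one_mem _
  · obtain ⟨n, hn⟩ := hgen (t / c) (div_ne_zero ht hc)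
    have := hpow n
    rwa [← hn, div_mul_cancel₀ _ hc] at this

theorem exists_two_gen (hW : GoodWeyl D) {a b : GL D.Idx K} (ha : a ∈ D.group K)
    (hb : b ∈ D.group K)
    (h : ∀ H : Subgroup (GL D.Idx K), a ∈ H → b ∈ H → D.group K ≤ H) :
    ∃ a b : ↥(D.group K), Subgroup.closure ({a, b} : Set ↥(D.group K)) = ⊤ := by
  refine ⟨⟨a, ha⟩, ⟨b, hb⟩, eq_top_iff.2 fun g _ => ?_⟩
  set S := Subgroup.closure ({⟨a, ha⟩, ⟨b, hb⟩} : Set ↥(D.group K))
  obtain ⟨g', hg', e⟩ := Subgroup.mem_map.1 (h (S.map (D.group K).subtype)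
    ⟨⟨a, ha⟩, Subgroup.subset_closure (by simp), rfl⟩
    ⟨⟨b, hb⟩, Subgroup.subset_closure (by simp), rfl⟩ g.2)
  rwa [← Subtype.ext e]

variable [Finite K]

omit [Finite K] in
/-- Torus element of the second root, product of all `n_i`, first root subgroup. -/
theorem torus_step (hW : GoodWeyl D) {H : Subgroup (GL D.Idx K)} {α β : Root D}
    (hp1 : D.pairing β α = 1) (hp2 : (D.pairing (wCox D β) α).natAbs = 1) {ω : Kˣ}
    (hω1 : (ω : K) ≠ 1) (hgen : ∀ t : K, t ≠ 0 → ∃ n : ℕ, t = (ω : K) ^ n)
    (hh : hT K β ω ∈ H) (hy : X hW.good α 1 * coxEl hW ∈ H) :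
    coxEl hW ∈ H ∧ Has hW H α := by
  set h : GL D.Idx K := hT K β ω
  set h' : GL D.Idx K := hT K (coxPerm hW β) ω
  set k : Kˣ := ω ^ D.pairing (coxPerm hW β) α
  have hz : X hW.good α (1 - (k : K)) * h' ∈ H := by
    have := mul_mem (mul_mem hy hh) (inv_mem hy)
    rw [show X hW.good α 1 * coxEl hW * h * (X hW.good α 1 * coxEl hW)⁻¹ =
        X hW.good α 1 * (coxEl hW * h * (coxEl hW)⁻¹) * (X hW.good α 1)⁻¹ by group,
      coxEl_conj_hT, X_inv] at this
    have e : h' * X hW.good α (-1 : K) * h'⁻¹ = X hW.good α ((k : K) * -1) := hT_conj_X hW _ _ _ _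
    rw [show X hW.good α 1 * h' * X hW.good α (-1 : K) =
      X hW.good α 1 * (h' * X hW.good α (-1 : K) * h'⁻¹) * h' by group, e, X_mul] at this
    rwa [mul_neg_one, ← sub_eq_add_neg] at this
  have hκ : ∀ u, h * X hW.good α u * h⁻¹ = X hW.good α ((ω : K) * u) := fun u => by
    rw [hT_conj_X hW, hp1, zpow_one]
  have hcomm : h * h' = h' * h :=
    diag_comm hW (hT_mem_diagonal hW _ _) (hT_mem_diagonal hW _ _)
  have hk1 : (k : K) ≠ 1 := by
    intro e
    apply hω1
    have hk : ω ^ D.pairing (coxPerm hW β) α = 1 := Units.ext e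
    rw [coxPerm_val] at hk
    rcases Int.natAbs_eq_iff.1 hp2 with e' | e' <;> rw [e'] at hk
    · rw [Nat.cast_one, zpow_one] at hk; simp [hk]
    · rw [Nat.cast_one, zpow_neg, zpow_one, inv_eq_one] at hk; simp [hk]
  set c : K := (1 - (k : K)) * ((ω : K) - 1)
  have hx : X hW.good α c ∈ H := by
    have e : h * (X hW.good α (1 - (k : K)) * h') * h⁻¹ * (X hW.good α (1 - (k : K)) * h')⁻¹ =
        X hW.good α c := by
      rw [show h * (X hW.good α (1 - (k : K)) * h') * h⁻¹ * (X hW.good α (1 - (k : K)) * h')⁻¹ =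
          (h * X hW.good α (1 - (k : K)) * h⁻¹) * (h * h') * h⁻¹ * h'⁻¹ *
            (X hW.good α (1 - (k : K)))⁻¹ by group, hκ, hcomm,
        mul_assoc _ (h' * h) h⁻¹, mul_inv_cancel_right, mul_inv_cancel_right, X_inv, X_mul]
      congr 1
      simp only [c]
      ring
    rw [← e]
    exact mul_mem (mul_mem (mul_mem hh hz) (inv_mem hh)) (inv_mem hz)
  have hα := has_of_torus hW hh hκ hgen (c := c)
    (mul_ne_zero (sub_ne_zero.2 (Ne.symm hk1)) (sub_ne_zero.2 hω1)) hx
  exact ⟨by simpa using mul_mem (inv_mem (hα 1)) hy, hα⟩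

theorem exists_generator (h2 : Nat.card K ≠ 2) :
    ∃ ω : Kˣ, (ω : K) ≠ 1 ∧ ∀ t : K, t ≠ 0 → ∃ n : ℕ, t = (ω : K) ^ n := by
  obtain ⟨ω, hω⟩ := IsCyclic.exists_generator (α := Kˣ)
  have hgen : ∀ t : K, t ≠ 0 → ∃ n : ℕ, t = (ω : K) ^ n := by
    intro t ht
    obtain ⟨n, hn⟩ := mem_powers_iff_mem_zpowers.2 (hω (Units.mk0 t ht))
    exact ⟨n, by simpa using (congrArg Units.val hn).symm⟩
  refine ⟨ω, fun h => h2 ?_, hgen⟩
  have := Fintype.ofFinite K
  classical
  rw [Nat.card_eq_fintype_card, ← Finset.card_univ,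
    show (Finset.univ : Finset K) = {0, 1} from Finset.ext fun t => by
      rcases eq_or_ne t 0 with rfl | ht
      · simp
      · obtain ⟨n, rfl⟩ := hgen t ht; simp [h]]
  simp

/-- The checks for `h, x w`. -/
def chkTorus (D : ChevalleyDatum) (c α β : ℕ) (cert : List (ℕ × Option ℕ)) : Bool :=
  decide (α < D.nroots) && decide (β < D.nroots) && decide (D.pairing β α = 1) &&
    decide ((D.pairing (wCox D β) α).natAbs = 1) && chkFull D (derive D c cert [α])

/-- The checks for `h u, x w`, `u` a root element centralised by `h`. -/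
def chkTorusRoot (D : ChevalleyDatum) (e α β γ m : ℕ) (cert : List (ℕ × Option ℕ)) : Bool :=
  decide (α < D.nroots) && decide (β < D.nroots) && decide (γ < D.nroots) &&
    decide (D.pairing β α = 1) && decide ((D.pairing (wCox D β) α).natAbs = 1) &&
    decide (D.pairing β γ = 0) && decide (D.pairing (wCoxPow D m β) γ = (e : ℤ)) &&
    chkFull D (derive D 1 cert [α, γ])

theorem two_gen_torus (hC : GoodComm D) (hW : GoodWeyl D) {c α β : ℕ}
    {cert : List (ℕ × Option ℕ)} (hchk : chkTorus D c α β cert = true) (hc : (c : K) ≠ 0)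
    (h2 : Nat.card K ≠ 2) :
    ∃ a b : ↥(D.group K), Subgroup.closure ({a, b} : Set ↥(D.group K)) = ⊤ := by
  simp only [chkTorus, Bool.and_eq_true, decide_eq_true_eq] at hchk
  obtain ⟨⟨⟨⟨hα, hβ⟩, hp1⟩, hp2⟩, hfull⟩ := hchk
  obtain ⟨ω, hω1, hgen⟩ := exists_generator h2
  refine exists_two_gen hW (a := hT K ⟨β, hβ⟩ ω) (b := X hW.good ⟨α, hα⟩ 1 * coxEl hW)
    (monomial_le_group hW (diag_le_monomial D (hT_mem_diagonal hW _ _)))
    (mul_mem (X_mem_group hW.good _ _) (coxEl_mem_group hW)) fun H hh hy => ?_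
  obtain ⟨hw, hA⟩ := torus_step hW (α := ⟨α, hα⟩) (β := ⟨β, hβ⟩) hp1 hp2 hω1 hgen hh hy
  exact group_le_of_chkFull hW (derive_has hC hW hw hc cert [α] (by simpa using hα)
    (hasAll_cons hW (fun _ => hA) (fun r hr => absurd hr List.not_mem_nil))).2 hfull

theorem two_gen_torusRoot (hC : GoodComm D) (hW : GoodWeyl D) {e α β γ m : ℕ}
    {cert : List (ℕ × Option ℕ)} (hchk : chkTorusRoot D e α β γ m cert = true)
    (he : Function.Surjective fun x : K => x ^ e) (h2 : Nat.card K ≠ 2) :
    ∃ a b : ↥(D.group K), Subgroup.closure ({a, b} : Set ↥(D.group K)) = ⊤ := by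
  simp only [chkTorusRoot, Bool.and_eq_true, decide_eq_true_eq] at hchk
  obtain ⟨⟨⟨⟨⟨⟨⟨hα, hβ⟩, hγ⟩, hp1⟩, hp2⟩, hp3⟩, hp4⟩, hfull⟩ := hchk
  obtain ⟨ω, hω1, hgen⟩ := exists_generator h2
  set B : Root D := ⟨β, hβ⟩
  set G : Root D := ⟨γ, hγ⟩
  refine exists_two_gen hW (a := hT K B ω * X hW.good G 1)
    (b := X hW.good ⟨α, hα⟩ 1 * coxEl hW)
    (mul_mem (monomial_le_group hW (diag_le_monomial D (hT_mem_diagonal hW _ _)))
      (X_mem_group hW.good _ _))
    (mul_mem (X_mem_group hW.good _ _) (coxEl_mem_group hW)) fun H ha hy => ?_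
  have := Fintype.ofFinite K
  have hcom : Commute (hT K B ω) (X hW.good G (1 : K)) := by
    have := hT_conj_X hW B ω G (1 : K)
    rw [show D.pairing B G = 0 from hp3, zpow_zero, Units.val_one, one_mul,
      mul_inv_eq_iff_eq_mul] at this
    exact this
  have hpow : hT K B ω ^ (Nat.card K - 1) = 1 := by
    have : ∀ n : ℕ, hT K B ω ^ n = hT K B (ω ^ n) := fun n => by
      induction n with
      | zero => simp [hT_one]
      | succ n ih => rw [pow_succ, ih, hT_mul, pow_succ]
    rw [this, show ω ^ (Nat.card K - 1) = 1 from ?_, hT_one]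
    classical
    rw [Nat.card_eq_fintype_card, ← Fintype.card_units, pow_card_eq_one]
  have hu : X hW.good G (1 : K) ∈ H := by
    have := inv_mem (pow_mem ha (Nat.card K - 1))
    rwa [hcom.mul_pow, hpow, one_mul, X_pow hW, mul_one, X_inv,
      show -((Nat.card K - 1 : ℕ) : K) = 1 by
        rw [Nat.cast_sub Nat.card_pos, Nat.card_eq_fintype_card, FiniteField.cast_card_eq_zero]
        simp] at this
  have hh : hT K B ω ∈ H := by simpa using mul_mem ha (inv_mem hu)
  obtain ⟨hw, hA⟩ := torus_step hW (α := ⟨α, hα⟩) (β := B) hp1 hp2 hω1 hgen hh hy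
  have hG : Has hW H G := by
    refine has_of_torus hW (mul_mem (mul_mem (pow_mem hw m) hh) (inv_mem (pow_mem hw m)))
      (κ := (ω : K) ^ e) (fun u => ?_) (fun t ht => ?_) one_ne_zero hu
    · rw [coxEl_pow_conj_hT hW, hT_conj_X hW, coxPerm_pow_val, show D.pairing (wCoxPow D m B) G = _ from hp4,
        zpow_natCast, Units.val_pow_eq_pow_val]
    · obtain ⟨s, rfl⟩ := he t
      have hs : s ≠ 0 ∨ e = 0 := by
        by_cases hs : s = 0
        · exact Or.inr (by simpa [hs] using ht)
        · exact Or.inl hs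
      rcases hs with hs | rfl
      · obtain ⟨n, rfl⟩ := hgen s hs
        exact ⟨n, by simp [← pow_mul, mul_comm]⟩
      · exact ⟨0, by simp⟩
  exact group_le_of_chkFull hW (derive_has hC hW hw (c := 1) (by simp) cert [α, γ]
    (by simp [hα, hγ]) (hasAll_cons hW (fun _ => hA)
      (hasAll_cons hW (fun _ => hG) (fun r hr => absurd hr List.not_mem_nil)))).2 hfull

/-- The checks for `x, w` over two elements. -/
def chkTwo (D : ChevalleyDatum) (α : ℕ) (cert : List (ℕ × Option ℕ)) : Bool :=
  decide (α < D.nroots) && chkFull D (derive D 1 cert [α])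

theorem has_of_card_two (hW : GoodWeyl D) {H : Subgroup (GL D.Idx K)} (h2 : Nat.card K = 2)
    {r : Root D} (h : X hW.good r (1 : K) ∈ H) : Has hW H r := by
  intro t
  have := Fintype.ofFinite K
  classical
  rcases eq_or_ne t 0 with rfl | ht
  · rw [X_zero]; exact one_mem _
  · rcases eq_or_ne t 1 with rfl | ht1
    · exact h
    · have := Finset.card_le_univ ({0, 1, t} : Finset K)
      rw [← Nat.card_eq_fintype_card, h2, Finset.card_insert_of_notMem (by simp [Ne.symm ht]),
        Finset.card_pair (Ne.symm ht1)] at this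
      omega

theorem two_gen_two (hC : GoodComm D) (hW : GoodWeyl D) {α : ℕ} {cert : List (ℕ × Option ℕ)}
    (hchk : chkTwo D α cert = true) (h2 : Nat.card K = 2) :
    ∃ a b : ↥(D.group K), Subgroup.closure ({a, b} : Set ↥(D.group K)) = ⊤ := by
  simp only [chkTwo, Bool.and_eq_true, decide_eq_true_eq] at hchk
  obtain ⟨hα, hfull⟩ := hchk
  refine exists_two_gen hW (a := X hW.good ⟨α, hα⟩ 1) (b := coxEl hW)
    (X_mem_group hW.good _ _) (coxEl_mem_group hW) fun H ha hw => ?_
  exact group_le_of_chkFull hW (derive_has hC hW hw (c := 1) (by simp) cert [α] (by simpa using hα)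
    (hasAll_cons hW (fun _ => has_of_card_two hW h2 ha)
      (fun r hr => absurd hr List.not_mem_nil))).2 hfull

/-- Root elements of roots that commute by the tables. -/
def commutes (D : ChevalleyDatum) (r s : ℕ) : Bool :=
  decide (r < D.nroots) && decide (s < D.nroots) && s != r && s != opp D r &&
    (D.commTerms r s).isEmpty

/-- The checks for `x v, w` over two elements, `v` of order three. -/
def chkTwoRoot (D : ChevalleyDatum) (α γ s : ℕ) (cert₀ cert₁ : List (ℕ × Option ℕ)) : Bool :=
  commutes D γ α && commutes D (opp D γ) α && commutes D γ s &&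
    decide (α < D.nroots) && s != opp D γ &&
    (derive D 1 cert₀ [α]).contains s &&
    match (D.commTerms (opp D γ) s).reverse with
    | (k, C, _, _) :: pre =>
      decide (k < D.nroots) && C.natAbs == 1 &&
        pre.all (fun p => (derive D 1 cert₀ [α]).contains p.1) &&
        chkFull D (derive D 1 cert₁ (k :: derive D 1 cert₀ [α]))
    | [] => false

omit [Finite K] in
theorem commute_of_commutes (hC : GoodComm D) (hW : GoodWeyl D) {r s : ℕ}
    (h : commutes D r s = true) (t u : K) :
    ∀ (hr : r < D.nroots) (hs : s < D.nroots),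
      Commute (X hW.good ⟨r, hr⟩ t) (X hW.good ⟨s, hs⟩ u) := by
  intro hr hs
  simp only [commutes, Bool.and_eq_true, decide_eq_true_eq, bne_iff_ne, List.isEmpty_iff] at h
  obtain ⟨⟨⟨-, h1⟩, h2⟩, h3⟩ := h
  have key := X_comm (R := K) hC ⟨r, hr⟩ ⟨s, hs⟩ (fun e => h1 (congrArg Fin.val e))
    (fun e => h2 (by
      have := congrArg Fin.val e
      rw [← hW.good.neg_fin, hW.good.neg_eq hr] at this
      exact this)) t u
  simp only [commRhs, h3, wordGL, List.map_nil, List.prod_nil, mul_one] at key
  exact key.symm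

omit [Finite K] in
/-- `x_r(1) x_{-r}(1)` has order three in characteristic two. -/
theorem pow_three_eq_one [CharP K 2] (hW : GoodWeyl D) (r : Root D) :
    (X hW.good r (1 : K) * X hW.good r.rev 1) ^ 3 = 1 := by
  have heta : ∀ (i : Fin D.rank) (s : Root D), (eta D i s : K) = 1 := fun i s => by
    rcases mul_self_eq_one_iff.1 (hW.eta_sq i s) with h | h <;> simp [h, CharTwo.neg_eq]
  refine hW.root_induction (P := fun r => (X hW.good r (1 : K) * X hW.good r.rev 1) ^ 3 = 1)
    (fun i => ?_) (fun i s hs => ?_) r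
  · set x := X hW.good (pRoot hW i) (1 : K)
    set y := X hW.good (pRoot hW i).rev (1 : K)
    have hx : x * x = 1 := by simp only [x, X_mul, CharTwo.add_self_eq_zero, X_zero]
    have hy : y * y = 1 := by simp only [y, X_mul, CharTwo.add_self_eq_zero, X_zero]
    have hn : (nR hW i : GL D.Idx K) = x * y * x := by
      simp only [nR, x, y, CharTwo.neg_eq]
    have h1 := nR_conj (R := K) hW i (pRoot hW i) 1
    rw [heta, one_mul, hW.wPerm_pRoot, hn] at h1
    change x * y * x * x * (x * y * x)⁻¹ = y at h1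
    rw [mul_inv_eq_iff_eq_mul, mul_assoc _ x x, hx, mul_one] at h1
    calc (x * y) ^ 3 = x * y * (x * y) * (x * y) := by rw [pow_succ, pow_two]
      _ = y * (x * y * x) * (x * y) * (x * y) := by rw [← h1]
      _ = y * x * y * (x * x) * y * x * y := by group
      _ = 1 := by rw [hx, mul_one, mul_assoc (y * x), hy, mul_one, mul_assoc y x x, hx, mul_one, hy]
  · have h := congrArg (fun g => nR hW i * g * (nR hW i)⁻¹) hs
    simp only [mul_one, mul_inv_cancel] at h
    rw [← h, ← conj_pow, show nR hW i * (X hW.good s (1 : K) * X hW.good s.rev 1) * (nR hW i)⁻¹ =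
      (nR hW i * X hW.good s 1 * (nR hW i)⁻¹) * (nR hW i * X hW.good s.rev 1 * (nR hW i)⁻¹) by
        group, nR_conj, nR_conj, hW.wPerm_rev, heta, heta, one_mul]

theorem two_gen_twoRoot (hC : GoodComm D) (hW : GoodWeyl D) {α γ s : ℕ}
    {cert₀ cert₁ : List (ℕ × Option ℕ)} (hchk : chkTwoRoot D α γ s cert₀ cert₁ = true)
    (h2 : Nat.card K = 2) :
    ∃ a b : ↥(D.group K), Subgroup.closure ({a, b} : Set ↥(D.group K)) = ⊤ := by
  simp only [chkTwoRoot, Bool.and_eq_true, decide_eq_true_eq, bne_iff_ne] at hchk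
  obtain ⟨⟨⟨⟨⟨⟨hga, hga'⟩, hgs⟩, hα⟩, hsn⟩, hs0⟩, hmatch⟩ := hchk
  rw [List.contains_iff_mem] at hs0
  have hγ : γ < D.nroots := by
    simp only [commutes, Bool.and_eq_true, decide_eq_true_eq] at hga
    exact hga.1.1.1.1
  have hs : s < D.nroots := by
    simp only [commutes, Bool.and_eq_true, decide_eq_true_eq] at hgs
    exact hgs.1.1.1.2
  have hγ' : opp D γ < D.nroots := by simp only [opp]; omega
  set A : Root D := ⟨α, hα⟩
  set G : Root D := ⟨γ, hγ⟩
  set G' : Root D := ⟨opp D γ, hγ'⟩
  set S : Root D := ⟨s, hs⟩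
  have hG' : G.rev = G' := Fin.ext (by rw [← hW.good.neg_fin, hW.good.neg_eq hγ])
  have := Fintype.ofFinite K
  have : CharP K 2 := by
    rw [Nat.card_eq_fintype_card] at h2
    have := Fact.mk Nat.prime_two
    exact charP_of_card_eq_prime h2
  have hX2 : ∀ r : Root D, X hW.good r (1 : K) * X hW.good r 1 = 1 := fun r => by
    rw [X_mul, CharTwo.add_self_eq_zero, X_zero]
  set v : GL D.Idx K := X hW.good G 1 * X hW.good G' 1
  refine exists_two_gen hW (a := X hW.good A 1 * v) (b := coxEl hW)
    (mul_mem (X_mem_group hW.good _ _) (mul_mem (X_mem_group hW.good _ _) (X_mem_group hW.good _ _)))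
    (coxEl_mem_group hW) fun H ha hw => ?_
  have hcv : Commute (X hW.good A (1 : K)) v :=
    ((commute_of_commutes hC hW hga 1 1 hγ hα).symm.mul_right
      (commute_of_commutes hC hW hga' 1 1 hγ' hα).symm)
  have hv3 : v ^ 3 = 1 := by
    simp only [v, ← hG']
    exact pow_three_eq_one hW G
  have hx : X hW.good A (1 : K) ∈ H := by
    have := pow_mem ha 3
    rwa [hcv.mul_pow, hv3, mul_one, X_pow hW, show ((3 : ℕ) : K) * 1 = 1 by
      rw [mul_one, show ((3 : ℕ) : K) = ((2 : ℕ) : K) + 1 by norm_num, CharP.cast_eq_zero, zero_add]]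
      at this
  have hvH : v ∈ H := by simpa using mul_mem (inv_mem hx) ha
  obtain ⟨hlt, hall⟩ := derive_has hC hW hw (c := 1) (by simp) cert₀ [α] (by simpa using hα)
    (hasAll_cons hW (fun _ => has_of_card_two hW h2 hx) (fun r hr => absurd hr List.not_mem_nil))
  split at hmatch
  case h_2 => simp at hmatch
  case h_1 k C a b pre heq =>
    simp only [Bool.and_eq_true, decide_eq_true_eq, beq_iff_eq, List.all_eq_true,
      List.contains_iff_mem] at hmatch
    obtain ⟨⟨⟨hk, hC1⟩, hpre⟩, hfull⟩ := hmatch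
    have hC2 : (C : K) = 1 := by
      rcases Int.natAbs_eq C with e | e <;> rw [e, hC1] <;> simp [CharTwo.neg_eq]
    -- conjugate the known root element by `v⁻¹`
    have hSH : X hW.good S (1 : K) ∈ H := hall S hs0 1
    have e1 : v⁻¹ * X hW.good S (1 : K) * v =
        X hW.good S 1 * commRhs hC.good (opp D γ) s (1 : K) 1 := by
      have key := X_comm (R := K) hC G' S (fun e => hsn (congrArg Fin.val e))
        (fun e => by
          simp only [commutes, Bool.and_eq_true, bne_iff_ne] at hgs
          apply hgs.1.1.2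
          have := congrArg Fin.val e
          rw [← hG', Fin.rev_rev] at this
          exact this) 1 1
      have hc' : X hW.good G (1 : K) * X hW.good S 1 * X hW.good G 1 = X hW.good S 1 := by
        rw [(commute_of_commutes hC hW hgs 1 1 hγ hs).eq, mul_assoc, hX2, mul_one]
      rw [show v⁻¹ = X hW.good G' 1 * X hW.good G 1 from inv_eq_of_mul_eq_one_right (by
        rw [show v * (X hW.good G' 1 * X hW.good G (1 : K)) = X hW.good G 1 *
          (X hW.good G' 1 * X hW.good G' 1) * X hW.good G 1 by simp only [v]; group,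
          hX2, mul_one, hX2])]
      calc X hW.good G' 1 * X hW.good G (1 : K) * X hW.good S 1 * v
          = X hW.good G' 1 * (X hW.good G 1 * X hW.good S 1 * X hW.good G 1) * X hW.good G' 1 := by
            simp only [v]; group
        _ = X hW.good G' 1 * (X hW.good S 1 * X hW.good G' 1) := by rw [hc', mul_assoc]
        _ = _ := by rw [key, ← mul_assoc, ← mul_assoc, hX2, one_mul]
    have hrhs : commRhs hC.good (opp D γ) s (1 : K) 1 ∈ H := by
      have := mul_mem (inv_mem hSH) (mul_mem (mul_mem (inv_mem hvH) hSH) hvH)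
      rwa [e1, inv_mul_cancel_left] at this
    have hkH : X hW.good ⟨k, hk⟩ (1 : K) ∈ H := by
      rw [List.reverse_eq_cons_iff] at heq
      rw [commRhs, heq, wordGL, List.map_append, List.map_append, List.prod_append] at hrhs
      simp only [List.map_cons, List.map_nil, List.prod_cons, List.prod_nil, mul_one, dif_pos hk,
        hC2, CharTwo.neg_eq, one_pow] at hrhs
      refine (Subgroup.mul_mem_cancel_left H (Subgroup.list_prod_mem _ fun g hg => ?_)).1 hrhs
      simp only [List.map_map, List.mem_map, List.mem_reverse, Function.comp_apply] at hg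
      obtain ⟨p, hp, rfl⟩ := hg
      split
      · exact hall _ (hpre p hp) _
      · exact one_mem _
    exact group_le_of_chkFull hW (derive_has hC hW hw (c := 1) (by simp) cert₁ _
      (List.forall_mem_cons.2 ⟨hk, hlt⟩)
      (hasAll_cons hW (fun _ => has_of_card_two hW h2 hkH) hall)).2 hfull

end

end CfsgLib.ChevGen
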