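import Cfsg.Agent.ChevGen.Pair
/-!
Certificates for two generators of the seven tabulated Chevalley groups.
-/

set_option autoImplicit false

namespace CfsgLib.ChevGen

open Cfsg.Lie CfsgLib.Chevalley

theorem chevG2_torusRoot : chkTorusRoot chevG2 1 6 1 3 1
    [(6, none), (3, none), (1, none), (7, none), (0, none), (9, none), (8, none)] = true := by
  decide +kernel

theorem chevD4_torusRoot : chkTorusRoot chevD4 1 18 6 2 4
    [(18, none), (2, none), (14, none), (8, none), (22, none), (10, none), (5, none), (21, none), (15, none), (2, some 22), (14, some 8)] = true := by
  decide +kernel

theorem chevF4_torusRoot : chkTorusRoot chevF4 1 33 17 0 1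
    [(33, none), (0, none), (27, none), (15, none), (35, none), (21, none), (38, none), (41, none), (28, none), (45, none), (36, none), (46, none), (14, none), (47, none), (32, none), (26, none), (6, none), (2, none), (0, some 46), (45, some 1), (46, some 2), (47, some 1)] = true := by
  decide +kernel

theorem chevB2_torusRoot : chkTorusRoot chevB2 2 5 3 0 3
    [(5, none), (0, none), (6, none), (3, none), (7, none)] = true := by
  decide +kernel

theorem chevB2_torus : chkTorus chevB2 2 5 3
    [(5, none), (6, none), (2, none), (5, some 1), (6, some 2)] = true := by
  decide +kernel

theorem chevE6_torus : chkTorus chevE6 1 56 18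
    [(56, none), (42, none), (47, none), (59, none), (52, none), (39, none), (37, none), (36, none), (8, none), (28, none), (23, none), (42, some 28), (47, some 23), (59, some 11), (52, some 8), (39, some 28), (36, some 8), (47, some 32), (59, some 9)] = true := by
  decide +kernel

theorem chevE6_two : chkTwo chevE6 56
    [(56, none), (42, none), (47, none), (59, none), (52, none), (39, none), (37, none), (36, none), (8, none), (28, none), (23, none), (42, some 28), (47, some 23), (59, some 11), (52, some 8), (39, some 28), (36, some 8), (47, some 32), (59, some 9)] = true := by
  decide +kernel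

theorem chevE7_torus : chkTorus chevE7 1 78 10
    [(78, none), (95, none), (84, none), (104, none), (113, none), (88, none), (107, none), (76, none), (82, none), (47, none), (30, none), (41, none), (21, none), (12, none), (37, none), (18, none), (49, none), (78, some 41), (95, some 21), (104, some 37), (113, some 18), (88, some 21), (107, some 12), (76, some 37), (82, some 18), (47, some 49), (30, some 43), (78, some 46), (95, some 29), (84, some 40), (104, some 20), (88, some 40), (107, some 20), (76, some 50), (82, some 44)] = true := by
  decide +kernel

theorem chevE7_two : chkTwo chevE7 78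
    [(78, none), (95, none), (84, none), (104, none), (113, none), (88, none), (107, none), (76, none), (82, none), (47, none), (30, none), (41, none), (21, none), (12, none), (37, none), (18, none), (49, none), (78, some 41), (95, some 21), (104, some 37), (113, some 18), (88, some 21), (107, some 12), (76, some 37), (82, some 18), (47, some 49), (30, some 43), (78, some 46), (95, some 29), (84, some 40), (104, some 20), (88, some 40), (107, some 20), (76, some 50), (82, some 44)] = true := by
  decide +kernel

theorem chevE8_torus : chkTorus chevE8 1 162 14
    [(162, none), (135, none), (142, none), (165, none), (149, none), (176, none), (190, none), (153, none), (179, none), (192, none), (154, none), (180, none), (138, none), (145, none), (168, none), (77, none), (104, none), (97, none), (74, none), (90, none), (63, none), (49, none), (86, none), (60, none), (47, none), (85, none), (59, none), (149, some 86), (149, some 101), (176, some 60), (190, some 47), (153, some 90), (153, some 85), (179, some 63), (179, some 59), (192, some 49), (154, some 86), (180, some 60), (138, some 90)] = true := by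
  decide +kernel

theorem chevE8_two : chkTwo chevE8 162
    [(162, none), (135, none), (142, none), (165, none), (149, none), (176, none), (190, none), (153, none), (179, none), (192, none), (154, none), (180, none), (138, none), (145, none), (168, none), (77, none), (104, none), (97, none), (74, none), (90, none), (63, none), (49, none), (86, none), (60, none), (47, none), (85, none), (59, none), (149, some 86), (149, some 101), (176, some 60), (190, some 47), (153, some 90), (153, some 85), (179, some 63), (179, some 59), (192, some 49), (154, some 86), (180, some 60), (138, some 90)] = true := by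
  decide +kernel

theorem chevD4_twoRoot : chkTwoRoot chevD4 18 10 1
    [(18, none), (14, none), (22, none), (5, none), (9, none)]
    [(3, none), (7, none), (11, none), (20, none), (16, none), (14, some 7), (22, some 3)] = true := by
  decide +kernel

theorem chevF4_twoRoot : chkTwoRoot chevF4 33 0 3
    [(33, none), (27, none), (35, none), (38, none), (28, none), (36, none), (14, none), (20, none), (12, none), (36, some 14), (12, some 9)]
    [(6, none), (2, none), (1, none), (0, none), (15, none), (21, none), (41, none), (45, none), (46, none), (2, some 46), (1, some 45), (1, some 47), (0, some 46)] = true := by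
  decide +kernel

/-- The tabulated Chevalley groups are generated by two elements. -/
theorem two_gen {D : ChevalleyDatum}
    (hD : D ∈ [chevG2, chevB2, chevD4, chevF4, chevE6, chevE7, chevE8]) {K : Type*} [Field K]
    [Finite K] (hK : D ∈ [chevB2, chevG2] → ∃ x : K, x ≠ 0 ∧ x ≠ 1) :
    ∃ a b : ↥(D.group K), Subgroup.closure ({a, b} : Set ↥(D.group K)) = ⊤ := by
  have hC := goodComm_of_mem hD
  have hW := goodWeyl_of_mem hD
  have h1 : ((1 : ℕ) : K) ≠ 0 := by simp
  have hsurj : Function.Surjective fun x : K => x ^ 1 := fun x => ⟨x, pow_one x⟩
  have hne : (∃ x : K, x ≠ 0 ∧ x ≠ 1) → Nat.card K ≠ 2 := by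
    rintro ⟨x, hx0, hx1⟩ h
    have := Fintype.ofFinite K
    classical
    have := Finset.card_le_univ ({0, 1, x} : Finset K)
    rw [← Nat.card_eq_fintype_card, h, Finset.card_insert_of_notMem (by simp [Ne.symm hx0]),
      Finset.card_pair (Ne.symm hx1)] at this
    omega
  simp only [List.mem_cons, List.not_mem_nil, or_false] at hD
  rcases hD with rfl | rfl | rfl | rfl | rfl | rfl | rfl
  · exact two_gen_torusRoot hC hW chevG2_torusRoot hsurj (hne (hK (by simp)))
  · by_cases h2 : (2 : K) = 0
    · refine two_gen_torusRoot hC hW chevB2_torusRoot (fun x => ?_) (hne (hK (by simp)))
      have : CharP K 2 := CharTwo.of_one_ne_zero_of_two_eq_zero one_ne_zero h2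
      obtain ⟨y, hy⟩ := (bijective_frobenius K 2).2 x
      exact ⟨y, hy⟩
    · exact two_gen_torus hC hW chevB2_torus (by simpa using h2) (hne (hK (by simp)))
  · by_cases h : Nat.card K = 2
    · exact two_gen_twoRoot hC hW chevD4_twoRoot h
    · exact two_gen_torusRoot hC hW chevD4_torusRoot hsurj h
  · by_cases h : Nat.card K = 2
    · exact two_gen_twoRoot hC hW chevF4_twoRoot h
    · exact two_gen_torusRoot hC hW chevF4_torusRoot hsurj h
  · by_cases h : Nat.card K = 2
    · exact two_gen_two hC hW chevE6_two h
    · exact two_gen_torus hC hW chevE6_torus h1 h
  · by_cases h : Nat.card K = 2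
    · exact two_gen_two hC hW chevE7_two h
    · exact two_gen_torus hC hW chevE7_torus h1 h
  · by_cases h : Nat.card K = 2
    · exact two_gen_two hC hW chevE8_two h
    · exact two_gen_torus hC hW chevE8_torus h1 h

end CfsgLib.ChevGen
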