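import Cfsg.Agent.ReeG2.Torus
import Cfsg.Prelude.Def_LieTwisted
import Mathlib
/-!
Two generators of the small Ree groups: a torus element and a product of a unipotent and a monomial
element.
-/

set_option autoImplicit false
set_option linter.unusedSectionVars false

namespace CfsgLib.ChevGen.Ree

open Cfsg.Lie CfsgLib.Chevalley CfsgLib.ReeG2

variable {K : Type*} [Field K] [CharP K 3]

theorem nu_wordG : ∀ w : List (ℕ × K), (∀ p ∈ w, p.1 < 12) →
    nu K (wordG w) = wordG (chevG2.negWord w)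
  | [], _ => map_one _
  | (r, t) :: w, hw => by
    have hr : r < 12 := hw (r, t) List.mem_cons_self
    have ih := nu_wordG w fun q hq => hw q (List.mem_cons_of_mem _ hq)
    simp only [ChevalleyDatum.negWord, wordG, List.map_cons, List.prod_cons, List.map_map] at ih ⊢
    rw [map_mul, ih]
    congr 1
    have hn : ∀ r : Fin 12, chevG2.negIdx.getD (r : ℕ) 0 = ((r.rev : Fin 12) : ℕ) := by decide
    rw [dif_pos hr, nu_xG,
      dif_pos (show chevG2.negIdx.getD r 0 < 12 by rw [hn ⟨r, hr⟩]; exact Fin.isLt _)]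
    congr 1
    exact Fin.ext (hn ⟨r, hr⟩).symm

variable {m : ℕ}

theorem wordU_eq_wordG (t u v : K) : wordU m t u v = wordG (reeWordU (3 ^ m) t u v) :=
  Subtype.ext (Units.ext (by rw [coe_wordU, coe_wordG, coe_wordGL]))

theorem wordU_mem (t u v : K) :
    ((wordU m t u v : ↥(GG K)) : GL I K) ∈ twistedG2 K (3 ^ m) :=
  Subgroup.subset_closure ⟨_, ⟨t, u, v, Or.inl rfl⟩, coe_wordU m t u v⟩

theorem nu_wordU_mem (t u v : K) :
    ((nu K (wordU m t u v) : ↥(GG K)) : GL I K) ∈ twistedG2 K (3 ^ m) :=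
  Subgroup.subset_closure ⟨_, ⟨t, u, v, Or.inr rfl⟩, by
    rw [wordU_eq_wordG, nu_wordG _ (by simp [reeWordU, g2a, g2b, g2ab, g2aab, g2aaab, g2aaabb]),
      coe_wordG, coe_wordGL]
    rfl⟩

theorem nn_mem (u : Kˣ) : ((nn m u : ↥(GG K)) : GL I K) ∈ twistedG2 K (3 ^ m) := by
  rw [nn_eq, Subgroup.coe_mul, Subgroup.coe_mul]
  exact mul_mem (mul_mem (wordU_mem _ _ _) (nu_wordU_mem _ _ _)) (wordU_mem _ _ _)

variable [Finite K]

theorem twistedG2_le_fixG (hK : Nat.card K = 3 ^ (2 * m + 1)) :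
    twistedG2 K (3 ^ m) ≤ fixG K m := by
  rw [twistedG2, ChevalleyDatum.genSubgroup, Subgroup.closure_le]
  rintro g ⟨w, ⟨t, u, v, rfl | rfl⟩, hg⟩
  · rw [show g = ((wordU m t u v : ↥(GG K)) : GL I K) from Units.ext (hg.trans (coe_wordU m t u v).symm)]
    exact coe_mem_fixG.2 (wordU_fixed hK t u v)
  · rw [show g = ((nu K (wordU m t u v) : ↥(GG K)) : GL I K) from Units.ext (by
      rw [hg, wordU_eq_wordG,
        nu_wordG _ (by simp [reeWordU, g2a, g2b, g2ab, g2aab, g2aaab, g2aaabb]), coe_wordG,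
        coe_wordGL]
      rfl)]
    exact coe_mem_fixG.2 (by rw [sigma_nu, wordU_fixed hK])

theorem wordU_zero : wordU m (0 : K) 0 0 = 1 := by
  simp [wordU, uElt, tail, theta_zero, xG_zero]

theorem wordU_inv_mid (hK : Nat.card K = 3 ^ (2 * m + 1)) (x : K) :
    (wordU m 0 x 0)⁻¹ = wordU m 0 (-x) 0 :=
  inv_eq_of_mul_eq_one_right (by
    rw [wordU_mul hK, ← wordU_zero (K := K) (m := m)]
    congr 1 <;> simp [theta_zero])

theorem nn_inv (hK : Nat.card K = 3 ^ (2 * m + 1)) (u : Kˣ) : (nn m u)⁻¹ = nn m (-u) := by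
  rw [nn_eq, nn_eq, mul_inv_rev, mul_inv_rev, ← map_inv, wordU_inv_mid hK, wordU_inv_mid hK,
    inv_neg, Units.val_neg, Units.val_neg, mul_assoc]

/-- The value on the long fundamental root of `n(u) n(-1)`. -/
def bVal (m : ℕ) (u : Kˣ) : Kˣ := (u ^ 3 ^ m) ^ 3 * u⁻¹

theorem exists_tor (hK : Nat.card K = 3 ^ (2 * m + 1)) (u : Kˣ) :
    (∃ A, nn m u * nn m (-1) = hh A (bVal m u)) ∧
      ∃ A, nn m 1 * (nn m u * nn m (-1)) * (nn m 1)⁻¹ = hh A (bVal m u)⁻¹ := by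
  refine ⟨hT_eq_hh_square m u, ?_⟩
  obtain ⟨A₁, h₁⟩ := hT_eq_hh_square m (-u)
  obtain ⟨A₂, h₂⟩ := hT_eq_hh_square m (-1 : Kˣ)
  refine ⟨A₁⁻¹ * A₂, ?_⟩
  have e : nn m 1 * (nn m u * nn m (-1)) * (nn m 1)⁻¹ =
      (nn m (-u) * nn m (-1))⁻¹ * (nn m (-1) * nn m (-1)) := by
    rw [nn_inv hK 1, mul_inv_rev, nn_inv hK (-1), nn_inv hK (-u), neg_neg, neg_neg]
    simp only [mul_assoc]
  have hinv : ∀ A B : Kˣ, (hh A B : ↥(GG K))⁻¹ = hh A⁻¹ B⁻¹ := fun A B =>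
    inv_eq_of_mul_eq_one_right (by rw [hh_mul, mul_inv_cancel, mul_inv_cancel, hh_one])
  rw [e, h₁, h₂, hinv, hh_mul]
  congr 1
  have hodd : Odd (3 ^ m) := Odd.pow (by decide)
  have h3 : Odd 3 := by decide
  simp only [bVal, hodd.neg_pow, h3.neg_pow, neg_mul, one_pow, inv_neg, mul_neg, neg_neg, inv_one,
    one_mul, mul_one, mul_inv]

theorem hh_conj_uElt (A B : Kˣ) (x b c d e f : K) :
    hh A B * uElt x b c d e f * (hh A B)⁻¹ =
      uElt ((A : K) * x) ((B : K) * b) (((A * B : Kˣ) : K) * c) (((A ^ 2 * B : Kˣ) : K) * d)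
        (((A ^ 3 * B : Kˣ) : K) * e) (((A ^ 3 * B ^ 2 : Kˣ) : K) * f) := by
  obtain ⟨h7, h6, h8, h9, h10, h11⟩ := chi_table A B
  show MulAut.conj (hh A B) _ = _
  simp only [uElt, tail, map_mul, MulAut.conj_apply, hh_conj, h7, h6, h8, h9, h10, h11]

theorem hh_conj_wordU (hK : Nat.card K = 3 ^ (2 * m + 1)) {A B : Kˣ}
    (h : sigma K m (hh A B) = hh A B) (t u v : K) :
    hh A B * wordU m t u v * (hh A B)⁻¹ =
      wordU m ((B : K) * t) (((A ^ 3 * B : Kˣ) : K) * u) (((A ^ 3 * B ^ 2 : Kˣ) : K) * v) := by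
  have e : hh A B * wordU m t u v * (hh A B)⁻¹ =
      uElt ((A : K) * theta m t) ((B : K) * t) (((A * B : Kˣ) : K) * (theta m t * t + theta m u))
        (((A ^ 2 * B : Kˣ) : K) * (theta m t ^ 2 * t + theta m v))
        (((A ^ 3 * B : Kˣ) : K) * u) (((A ^ 3 * B ^ 2 : Kˣ) : K) * v) := hh_conj_uElt A B _ _ _ _ _ _
  rw [e]
  refine (fixed_uElt_iff hK _ _ _ _ _ _).1 ?_
  rw [← e, map_mul, map_mul, map_inv, h, wordU_fixed hK]

theorem ratio_eq (hK : Nat.card K = 3 ^ (2 * m + 1)) {A B : Kˣ}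
    (h : sigma K m (hh A B) = hh A B) : (A : K) = theta m (B : K) := by
  have e := hh_conj_wordU hK h 1 0 0
  rw [wordU, wordU] at e
  have e' : hh A B * uElt (theta m 1) (1 : K) (theta m 1 * 1 + theta m 0)
      (theta m 1 ^ 2 * 1 + theta m 0) 0 0 * (hh A B)⁻¹ =
      uElt ((A : K) * theta m 1) ((B : K) * 1) (((A * B : Kˣ) : K) * (theta m 1 * 1 + theta m 0))
        (((A ^ 2 * B : Kˣ) : K) * (theta m 1 ^ 2 * 1 + theta m 0))
        (((A ^ 3 * B : Kˣ) : K) * 0) (((A ^ 3 * B ^ 2 : Kˣ) : K) * 0) := hh_conj_uElt A B _ _ _ _ _ _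
  have := (uElt_inj (e'.symm.trans e)).1
  simpa [theta_one] using this

theorem odd_half (hK : Nat.card K = 3 ^ (2 * m + 1)) :
    ∃ k : ℕ, Nat.card K - 1 = 2 * (2 * k + 1) := by
  obtain ⟨k, hk⟩ : ∃ k, 3 ^ (2 * m + 1) = 4 * k + 3 := by
    clear hK
    induction m with
    | zero => exact ⟨0, rfl⟩
    | succ m ih =>
      obtain ⟨k, hk⟩ := ih
      exact ⟨9 * k + 6, by rw [show 2 * (m + 1) + 1 = 2 * m + 1 + 2 by ring, pow_add, hk]; ring⟩
  exact ⟨k, by rw [hK, hk]; omega⟩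

/-- An additive set stable under `ω²` containing a non-zero element is everything. -/
theorem all_mem (hK : Nat.card K = 3 ^ (2 * m + 1)) {ω : Kˣ}
    (hω : ∀ u : Kˣ, u ∈ Subgroup.zpowers ω) {T : K → Prop} (h0 : T 0)
    (hneg : ∀ x, T x → T (-x)) (hmul : ∀ x, T x → T (((ω ^ 2 : Kˣ) : K) * x)) {c : K} (hc : c ≠ 0)
    (hT : T c) (t : K) : T t := by
  rcases eq_or_ne t 0 with rfl | ht
  · exact h0
  obtain ⟨n, hn⟩ := mem_powers_iff_mem_zpowers.2 (hω (Units.mk0 (t / c) (div_ne_zero ht hc)))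
  have hp : ∀ i : ℕ, T ((ω : K) ^ (2 * i) * c) := by
    intro i
    induction i with
    | zero => simpa using hT
    | succ i ih =>
      have := hmul _ ih
      rwa [Units.val_pow_eq_pow_val, ← mul_assoc, ← pow_add, add_comm 2, ← mul_add_one 2 i] at this
  have ht' : t = (ω : K) ^ n * c := by
    have : (ω : K) ^ n = t / c := by simpa using congrArg Units.val hn
    rw [this, div_mul_cancel₀ _ hc]
  rcases Nat.even_or_odd n with ⟨i, hi⟩ | ⟨i, hi⟩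
  · rw [ht', show n = 2 * i by omega]
    exact hp i
  · obtain ⟨k, hk⟩ := odd_half hK
    have hord : orderOf ω = Nat.card K - 1 := by
      rw [orderOf_eq_card_of_forall_mem_zpowers hω, Nat.card_units]
    have hm1 : (ω : K) ^ (2 * k + 1) = -1 := by
      have hsq : (ω : K) ^ (2 * k + 1) * (ω : K) ^ (2 * k + 1) = 1 := by
        rw [← pow_add, ← two_mul, ← hk, ← hord, ← Units.val_pow_eq_pow_val, pow_orderOf_eq_one,
          Units.val_one]
      refine (mul_self_eq_one_iff.1 hsq).resolve_left fun e => ?_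
      have hd : orderOf ω ∣ 2 * k + 1 :=
        orderOf_dvd_of_pow_eq_one (Units.ext (by rw [Units.val_pow_eq_pow_val, e, Units.val_one]))
      have := Nat.le_of_dvd (by omega) hd
      omega
    have := hneg _ (hp (i + k + 1))
    rw [show 2 * (i + k + 1) = n + (2 * k + 1) by omega, pow_add, hm1, mul_neg_one, neg_mul, neg_neg,
      ← ht'] at this
    exact this

variable {H : Subgroup ↥(GG K)}

/-- From one unipotent element and the torus, the whole of `U`. -/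
theorem all_wordU (hK : Nat.card K = 3 ^ (2 * m + 1)) {ω : Kˣ}
    (hω : ∀ u : Kˣ, u ∈ Subgroup.zpowers ω) {A B : Kˣ} (hfix : sigma K m (hh A B) = hh A B)
    (hh' : hh A B ∈ H) (hB : B = bVal m ω) (hB1 : (B : K) ≠ 1) {c x y : K} (hc : c ≠ 0)
    (hx : wordU m c x y ∈ H) (t u v : K) : wordU m t u v ∈ H := by
  have hord : orderOf ω = Nat.card K - 1 := by
    rw [orderOf_eq_card_of_forall_mem_zpowers hω, Nat.card_units]
  set a : ℕ := 3 ^ (m + 1) with ha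
  have ha1 : 1 ≤ a := Nat.one_le_pow _ _ (by norm_num)
  have hsq : a * a = 3 * Nat.card K := by
    rw [hK, ha, ← pow_add, ← pow_succ']
    congr 1
    ring
  have hB' : B = ω ^ (a - 1) := by
    rw [hB, bVal, ← pow_mul, ← pow_succ, ← ha, mul_inv_eq_iff_eq_mul, ← pow_succ,
      Nat.sub_add_cancel ha1]
  have hpos := Nat.card_pos (α := K)
  have hB2 : B ^ (a + 1) = ω ^ 2 := by
    rw [hB', ← pow_mul, pow_eq_pow_iff_modEq, hord]
    have : (a - 1) * (a + 1) = 2 + 3 * (Nat.card K - 1) := by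
      obtain ⟨b, hb⟩ := Nat.exists_eq_add_of_le ha1
      rw [hb] at hsq ⊢
      rw [Nat.add_sub_cancel_left]
      have : (1 + b) * (1 + b) = 1 + 2 * b + b * b := by ring
      have : b * (1 + b + 1) = b * b + 2 * b := by ring
      omega
    rw [this]
    exact (Nat.modEq_iff_dvd' (by omega)).2 ⟨3, by omega⟩ |>.symm
  have hAB : A ^ 3 * B = ω ^ 2 := by
    have hA : A = B ^ 3 ^ m := Units.ext (by
      rw [Units.val_pow_eq_pow_val]; exact ratio_eq hK hfix)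
    rw [hA, ← hB2, ← pow_mul, ← pow_succ, ha, pow_succ 3 m]
  have hconj : ∀ t u v : K, wordU m t u v ∈ H → wordU m ((B : K) * t) (((A ^ 3 * B : Kˣ) : K) * u)
      (((A ^ 3 * B ^ 2 : Kˣ) : K) * v) ∈ H := fun t u v h => by
    rw [← hh_conj_wordU hK hfix]
    exact mul_mem (mul_mem hh' h) (inv_mem hh')
  have hinv : ∀ t u v : K, ∃ u' v', (wordU m t u v)⁻¹ = wordU m (-t) u' v' := fun t u v =>
    ⟨-u + theta m (-t) ^ 3 * t, -(v - (-t) * u + theta m (-t) ^ 3 * (t * -t - t ^ 2)),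
      inv_eq_of_mul_eq_one_right (by
        rw [wordU_mul hK, ← wordU_zero (K := K) (m := m)]
        congr 1 <;> ring)⟩
  -- first layer
  let T1 : K → Prop := fun t => ∃ u v, wordU m t u v ∈ H
  have hneg1 : ∀ t, T1 t → T1 (-t) := by
    rintro t ⟨u, v, h⟩
    obtain ⟨u', v', e⟩ := hinv t u v
    exact ⟨u', v', e ▸ inv_mem h⟩
  have hmul1 : ∀ t, T1 t → T1 (((ω ^ 2 : Kˣ) : K) * t) := by
    intro t ht
    have : ∀ n : ℕ, T1 (((B ^ n : Kˣ) : K) * t) := by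
      intro n
      induction n with
      | zero => simpa using ht
      | succ n ih =>
        obtain ⟨u, v, h⟩ := ih
        exact ⟨_, _, by
          have := hconj _ _ _ h
          rwa [← mul_assoc, ← Units.val_mul, ← pow_succ'] at this⟩
    rw [← hB2]
    exact this _
  have h1 : ∀ t, T1 t := all_mem hK hω ⟨0, 0, by rw [wordU_zero]; exact one_mem _⟩ hneg1 hmul1 hc
    ⟨x, y, hx⟩
  -- second layer
  let T2 : K → Prop := fun u => ∃ v, wordU m 0 u v ∈ H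
  have hneg2 : ∀ u, T2 u → T2 (-u) := by
    rintro u ⟨v, h⟩
    refine ⟨-v, ?_⟩
    have e : (wordU m 0 u v)⁻¹ = wordU m 0 (-u) (-v) := inv_eq_of_mul_eq_one_right (by
      rw [wordU_mul hK, ← wordU_zero (K := K) (m := m)]
      congr 1 <;> simp [theta_zero])
    exact e ▸ inv_mem h
  have hmul2 : ∀ u, T2 u → T2 (((ω ^ 2 : Kˣ) : K) * u) := by
    rintro u ⟨v, h⟩
    refine ⟨((A ^ 3 * B ^ 2 : Kˣ) : K) * v, ?_⟩
    have := hconj _ _ _ h
    rwa [mul_zero, hAB] at this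
  have hΔ : theta m (ω : K) ^ 3 * 1 - theta m 1 ^ 3 * (ω : K) ≠ 0 := by
    rw [theta_one, one_pow, one_mul, mul_one, sub_ne_zero]
    intro e
    apply hB1
    rw [hB, bVal, Units.val_mul, Units.val_inv_eq_inv_val, Units.val_pow_eq_pow_val,
      Units.val_pow_eq_pow_val]
    show theta m (ω : K) ^ 3 * _ = 1
    rw [e, mul_inv_cancel₀ ω.ne_zero]
  obtain ⟨u₁, v₁, g₁⟩ := h1 (ω : K)
  obtain ⟨u₂, v₂, g₂⟩ := h1 1
  have hT2 : T2 (theta m (ω : K) ^ 3 * 1 - theta m 1 ^ 3 * (ω : K)) := by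
    set d : K := theta m (ω : K) ^ 3 * 1 - theta m 1 ^ 3 * (ω : K)
    have hz : ∃ z, wordU m (ω : K) u₁ v₁ * wordU m 1 u₂ v₂ =
        wordU m 0 d z * (wordU m 1 u₂ v₂ * wordU m (ω : K) u₁ v₁) := by
      refine ⟨(v₁ + v₂ - 1 * u₁ + theta m 1 ^ 3 * ((ω : K) * 1 - (ω : K) ^ 2)) -
        (v₂ + v₁ - (ω : K) * u₂ + theta m (ω : K) ^ 3 * (1 * (ω : K) - 1 ^ 2)) +
        (1 + (ω : K)) * d, ?_⟩
      rw [wordU_mul hK, wordU_mul hK, wordU_mul hK]
      congr 1 <;> (try simp only [d, theta_zero]) <;> ring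
    obtain ⟨z, hz⟩ := hz
    refine ⟨z, ?_⟩
    rw [← mul_inv_eq_of_eq_mul hz]
    exact mul_mem (mul_mem g₁ g₂) (inv_mem (mul_mem g₂ g₁))
  have h2 : ∀ u, T2 u := all_mem hK hω ⟨0, by rw [wordU_zero]; exact one_mem _⟩ hneg2 hmul2 hΔ hT2
  -- centre
  have h3 : ∀ v, wordU m 0 0 v ∈ H := by
    intro v
    obtain ⟨u₃, v₃, g₃⟩ := h1 1
    obtain ⟨v₄, g₄⟩ := h2 v
    have e : wordU m 1 u₃ v₃ * wordU m 0 v v₄ =
        wordU m 0 0 v * (wordU m 0 v v₄ * wordU m 1 u₃ v₃) := by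
      rw [wordU_mul hK, wordU_mul hK, wordU_mul hK]
      congr 1 <;> simp [theta_zero, theta_one] <;> ring
    rw [← mul_inv_eq_of_eq_mul e]
    exact mul_mem (mul_mem g₃ g₄) (inv_mem (mul_mem g₄ g₃))
  obtain ⟨u₅, v₅, g₅⟩ := h1 t
  obtain ⟨v₆, g₆⟩ := h2 (u - u₅)
  have e : wordU m t u v =
      wordU m t u₅ v₅ * wordU m 0 (u - u₅) v₆ * wordU m 0 0 (v - v₅ - v₆) := by
    rw [wordU_mul hK, wordU_mul hK]
    congr 1 <;> simp [theta_zero] <;> ring
  rw [e]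
  exact mul_mem (mul_mem g₅ g₆) (h3 _)

theorem two_gen (hm : 1 ≤ m) (hK : Nat.card K = 3 ^ (2 * m + 1)) :
    ∃ a b : ↥(twistedG2 K (3 ^ m)), Subgroup.closure ({a, b} : Set ↥(twistedG2 K (3 ^ m))) = ⊤ := by
  obtain ⟨ω, hω⟩ := IsCyclic.exists_generator (α := Kˣ)
  obtain ⟨⟨A, hA⟩, ⟨A', hA'⟩⟩ := exists_tor hK ω
  set B := bVal m ω
  have hhmem : ((hh A B : ↥(GG K)) : GL I K) ∈ twistedG2 K (3 ^ m) := by
    rw [← hA, Subgroup.coe_mul]; exact mul_mem (nn_mem _) (nn_mem _)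
  have hh'mem : ((hh A' B⁻¹ : ↥(GG K)) : GL I K) ∈ twistedG2 K (3 ^ m) := by
    rw [← hA', Subgroup.coe_mul, Subgroup.coe_mul, Subgroup.coe_inv, Subgroup.coe_mul]
    exact mul_mem (mul_mem (nn_mem _) (mul_mem (nn_mem _) (nn_mem _))) (inv_mem (nn_mem _))
  have hfix : sigma K m (hh A B) = hh A B := coe_mem_fixG.1 (twistedG2_le_fixG hK hhmem)
  have hfix' : sigma K m (hh A' B⁻¹) = hh A' B⁻¹ := coe_mem_fixG.1 (twistedG2_le_fixG hK hh'mem)
  have hord : orderOf ω = Nat.card K - 1 := by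
    rw [orderOf_eq_card_of_forall_mem_zpowers hω, Nat.card_units]
  have hB1 : (B : K) ≠ 1 := by
    intro e
    have e' : (ω ^ 3 ^ m) ^ 3 = ω := mul_inv_eq_one.1 (Units.ext e)
    rw [← pow_mul, ← pow_succ] at e'
    have hlt : 3 ^ (m + 1) < Nat.card K - 1 := by
      have : 3 ^ (m + 2) ≤ 3 ^ (2 * m + 1) := Nat.pow_le_pow_right (by norm_num) (by omega)
      have : 3 ^ (m + 2) = 3 * 3 ^ (m + 1) := by ring
      have : 1 ≤ 3 ^ (m + 1) := Nat.one_le_pow _ _ (by norm_num)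
      omega
    have h1 : ω ^ (3 ^ (m + 1) - 1) = 1 := by
      rw [← mul_right_cancel_iff (a := ω), ← pow_succ, Nat.sub_add_cancel (Nat.one_le_pow _ _ (by norm_num)),
        one_mul, e']
    have h3 : 2 ≤ 3 ^ (m + 1) := le_trans (by norm_num) (Nat.le_self_pow (by omega) 3)
    have := Nat.le_of_dvd (by omega) (hord ▸ orderOf_dvd_of_pow_eq_one h1)
    omega
  let a : ↥(twistedG2 K (3 ^ m)) := ⟨((hh A B : ↥(GG K)) : GL I K), hhmem⟩
  let b : ↥(twistedG2 K (3 ^ m)) := ⟨((wordU m 1 0 0 * nn m 1 : ↥(GG K)) : GL I K), by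
    rw [Subgroup.coe_mul]; exact mul_mem (wordU_mem _ _ _) (nn_mem _)⟩
  refine ⟨a, b, eq_top_iff.2 fun g _ => ?_⟩
  set S := Subgroup.closure ({a, b} : Set ↥(twistedG2 K (3 ^ m)))
  suffices hle : twistedG2 K (3 ^ m) ≤ S.map (twistedG2 K (3 ^ m)).subtype by
    obtain ⟨g', hg', e⟩ := Subgroup.mem_map.1 (hle g.2)
    rwa [← Subtype.ext e]
  set H' := S.map (twistedG2 K (3 ^ m)).subtype
  let H : Subgroup ↥(GG K) := H'.comap (GG K).subtype
  have hha : hh A B ∈ H := ⟨a, Subgroup.subset_closure (by simp), rfl⟩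
  have hyb : wordU m 1 0 0 * nn m 1 ∈ H := ⟨b, Subgroup.subset_closure (by simp), rfl⟩
  have hinv : ∀ t u v : K, ∃ u' v', (wordU m t u v)⁻¹ = wordU m (-t) u' v' := fun t u v =>
    ⟨-u + theta m (-t) ^ 3 * t, -(v - (-t) * u + theta m (-t) ^ 3 * (t * -t - t ^ 2)),
      inv_eq_of_mul_eq_one_right (by
        rw [wordU_mul hK, ← wordU_zero (K := K) (m := m)]
        congr 1 <;> ring)⟩
  have hcomm : hh A B * hh A' B⁻¹ = hh A' B⁻¹ * hh A B := by
    rw [hh_mul, hh_mul, mul_comm A, mul_comm B]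
  set U1 := wordU m (1 : K) 0 0
  set h := hh A B
  set h' := hh A' B⁻¹
  have hz : U1 * h' * U1⁻¹ ∈ H := by
    have := mul_mem (mul_mem hyb hha) (inv_mem hyb)
    rw [show h' = nn m 1 * h * (nn m 1)⁻¹ by rw [← hA']; simp only [h, hA]]
    convert this using 1
    group
  have hconjz : h * (U1 * h' * U1⁻¹) * h⁻¹ = h * U1 * h⁻¹ * h' * (h * U1 * h⁻¹)⁻¹ := by
    have : h * h' * h⁻¹ = h' := by rw [hcomm, mul_inv_cancel_right]
    conv_rhs => rw [← this]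
    group
  obtain ⟨u₁, v₁, e₁⟩ := hinv 1 0 0
  set W := h * U1 * h⁻¹
  have hW : W = wordU m ((B : K) * 1) _ _ := hh_conj_wordU hK hfix 1 0 0
  obtain ⟨u₂, v₂, e₂⟩ := hinv ((B : K) * 1) (((A ^ 3 * B : Kˣ) : K) * 0)
    (((A ^ 3 * B ^ 2 : Kˣ) : K) * 0)
  have hP : ∃ u v, W * h' * W⁻¹ * h'⁻¹ = wordU m ((B : K) - 1) u v := by
    suffices ∃ s u v, W * h' * W⁻¹ * h'⁻¹ = wordU m s u v ∧ s = (B : K) - 1 by
      obtain ⟨s, u, v, e, rfl⟩ := this
      exact ⟨u, v, e⟩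
    refine ⟨_, _, _, (show W * h' * W⁻¹ * h'⁻¹ = W * (h' * W⁻¹ * h'⁻¹) by group).trans (by
      rw [hW, e₂, hh_conj_wordU hK hfix', wordU_mul hK]), ?_⟩
    rw [mul_neg, mul_one, Units.inv_mul]
    ring
  have hQ : ∃ u v, U1 * h' * U1⁻¹ * h'⁻¹ = wordU m (1 - ((B⁻¹ : Kˣ) : K)) u v := by
    suffices ∃ s u v, U1 * h' * U1⁻¹ * h'⁻¹ = wordU m s u v ∧ s = 1 - ((B⁻¹ : Kˣ) : K) by
      obtain ⟨s, u, v, e, rfl⟩ := this
      exact ⟨u, v, e⟩
    refine ⟨_, _, _, (show U1 * h' * U1⁻¹ * h'⁻¹ = U1 * (h' * U1⁻¹ * h'⁻¹) by group).trans (by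
      rw [show U1⁻¹ = _ from e₁, hh_conj_wordU hK hfix']
      simp only [U1]
      rw [wordU_mul hK]), ?_⟩
    ring
  obtain ⟨uP, vP, hP⟩ := hP
  obtain ⟨uQ, vQ, hQ⟩ := hQ
  obtain ⟨u₃, v₃, e₃⟩ := hinv (1 - ((B⁻¹ : Kˣ) : K)) uQ vQ
  have hx : ∃ x y, wordU m (((B : K) - 1) + -(1 - ((B⁻¹ : Kˣ) : K))) x y ∈ H := by
    have e : W * h' * W⁻¹ * h'⁻¹ * (U1 * h' * U1⁻¹ * h'⁻¹)⁻¹ =
        h * (U1 * h' * U1⁻¹) * h⁻¹ * (U1 * h' * U1⁻¹)⁻¹ := by rw [hconjz]; group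
    have hm' : W * h' * W⁻¹ * h'⁻¹ * (U1 * h' * U1⁻¹ * h'⁻¹)⁻¹ ∈ H := by
      rw [e]
      exact mul_mem (mul_mem (mul_mem hha hz) (inv_mem hha)) (inv_mem hz)
    rw [hP, hQ, e₃, wordU_mul hK] at hm'
    exact ⟨_, _, hm'⟩
  obtain ⟨x, y, hx⟩ := hx
  have hc : ((B : K) - 1) + -(1 - ((B⁻¹ : Kˣ) : K)) ≠ 0 := by
    rw [Units.val_inv_eq_inv_val]
    intro e
    apply hB1
    field_simp at e
    have : ((B : K) - 1) * ((B : K) - 1) = 0 := by linear_combination e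
    simpa [sub_eq_zero] using this
  have hU : ∀ t u v, wordU m t u v ∈ H :=
    all_wordU hK hω hfix hha rfl hB1 hc hx
  have hn : nn m 1 ∈ H := by simpa [U1] using mul_mem (inv_mem (hU 1 0 0)) hyb
  have hV : ∀ t u v, nu K (wordU m t u v) ∈ H := by
    intro t u v
    have hpos : ((nn m 1 * nu K (wordU m t u v) * (nn m 1)⁻¹ : ↥(GG K)) : GL I K) ∈
        chevG2.posUnipotent K := by
      have hx : ∀ (r : R0) (s : K), 6 ≤ (r : ℕ) →
          ((nn m 1 * nu K (xG r s) * (nn m 1)⁻¹ : ↥(GG K)) : GL I K) ∈ chevG2.posUnipotent K := by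
        intro r s hr
        obtain ⟨c, hc⟩ := (monBy_nn m (1 : Kˣ)).conj_X r.rev
        rw [nu_xG]
        show ((nn m 1 : ↥(GG K)) : GL I K) * X good_chevG2 r.rev (-s) * _ ∈ _
        rw [Subgroup.coe_inv, hc, show revPerm r.rev = r from Fin.rev_rev r]
        exact X_mem_pos good_chevG2 hr _
      have key : ∀ g g' : ↥(GG K), nn m 1 * nu K (g * g') * (nn m 1)⁻¹ =
          (nn m 1 * nu K g * (nn m 1)⁻¹) * (nn m 1 * nu K g' * (nn m 1)⁻¹) := fun g g' => by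
        rw [map_mul]; group
      simp only [wordU, uElt, tail, key, Subgroup.coe_mul]
      exact mul_mem (mul_mem (hx _ _ (by decide)) (hx _ _ (by decide)))
        (mul_mem (mul_mem (mul_mem (hx _ _ (by decide)) (hx _ _ (by decide))) (hx _ _ (by decide)))
          (hx _ _ (by decide)))
    have hfx : ((nn m 1 * nu K (wordU m t u v) * (nn m 1)⁻¹ : ↥(GG K)) : GL I K) ∈ fixG K m :=
      twistedG2_le_fixG hK (by
        rw [Subgroup.coe_mul, Subgroup.coe_mul, Subgroup.coe_inv]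
        exact mul_mem (mul_mem (nn_mem _) (nu_wordU_mem _ _ _)) (inv_mem (nn_mem _)))
    obtain ⟨t', u', v', e⟩ := (pos_fix_iff hK).1 ⟨hpos, hfx⟩
    have := mul_mem (mul_mem (inv_mem hn) (hU t' u' v')) hn
    rw [Subtype.ext e] at this
    convert this using 1
    group
  conv_lhs => rw [twistedG2, ChevalleyDatum.genSubgroup]
  rw [Subgroup.closure_le]
  rintro g ⟨w, ⟨t, u, v, rfl | rfl⟩, hg⟩
  · rw [show g = ((wordU m t u v : ↥(GG K)) : GL I K) from Units.ext (hg.trans (coe_wordU m t u v).symm)]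
    exact hU t u v
  · rw [show g = ((nu K (wordU m t u v) : ↥(GG K)) : GL I K) from Units.ext (by
      rw [hg, wordU_eq_wordG,
        nu_wordG _ (by simp [reeWordU, g2a, g2b, g2ab, g2aab, g2aaab, g2aaabb]), coe_wordG,
        coe_wordGL]
      rfl)]
    exact hV t u v

end CfsgLib.ChevGen.Ree
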