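import Cfsg.Agent.ChevGen.Pair
/-!
Families of root elements with parameters twisted by powers of a Frobenius endomorphism, their
conjugates by products of fundamental reflection elements, and the torus argument for two generators.
-/

set_option autoImplicit false

namespace CfsgLib.ChevGen

open Cfsg.Lie CfsgLib.Chevalley
open scoped MatrixGroups

/-! ### General groups -/

section Group

variable {G : Type*} [Group G]

/-- Merge two products when each later first factor commutes with each earlier second factor. -/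
theorem prod_interleave {ι : Type*} (a b : ι → G) (L : List ι)
    (h : L.Pairwise fun i j => Commute (b i) (a j)) :
    (L.map a).prod * (L.map b).prod = (L.map fun i => a i * b i).prod := by
  induction L with
  | nil => simp
  | cons i L ih =>
    obtain ⟨h1, h2⟩ := List.pairwise_cons.1 h
    have hc : Commute (b i) (L.map a).prod := Commute.list_prod_right _ _ fun y hy => by
      obtain ⟨j, hj, rfl⟩ := List.mem_map.1 hy
      exact h1 j hj
    simp only [List.map_cons, List.prod_cons]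
    rw [← ih h2, mul_assoc (a i), mul_assoc (a i) (b i), ← mul_assoc (L.map a).prod,
      ← hc.eq, mul_assoc]

variable {K : Type*} [Field K]

/-- The torus argument for a one-parameter family. -/
theorem family_step {H : Subgroup G} (f : K → G) (hadd : ∀ s t, f s * f t = f (s + t))
    {h h' w : G} (hw' : w * h * w⁻¹ = h') (hcomm : h * h' = h' * h) {κ κ' : K}
    (hconj : ∀ u, h * f u * h⁻¹ = f (κ * u)) (hconj' : ∀ u, h' * f u * h'⁻¹ = f (κ' * u))
    (hgen : ∀ t : K, t ≠ 0 → ∃ n : ℕ, t = κ ^ n) (hκ : κ ≠ 1) (hκ' : κ' ≠ 1)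
    (hh : h ∈ H) (hy : f 1 * w ∈ H) : w ∈ H ∧ ∀ t, f t ∈ H := by
  have f0 : f 0 = 1 := by
    have := hadd 0 0
    rwa [add_zero, mul_eq_left] at this
  have finv : ∀ t, (f t)⁻¹ = f (-t) := fun t =>
    inv_eq_of_mul_eq_one_right (by rw [hadd, add_neg_cancel, f0])
  have hz : f (1 - κ') * h' ∈ H := by
    have := mul_mem (mul_mem hy hh) (inv_mem hy)
    rw [show f 1 * w * h * (f 1 * w)⁻¹ = f 1 * (w * h * w⁻¹) * (f 1)⁻¹ by group, hw', finv,
      show f 1 * h' * f (-1) = f 1 * (h' * f (-1) * h'⁻¹) * h' by group, hconj', hadd] at this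
    rwa [mul_neg_one, ← sub_eq_add_neg] at this
  set c : K := (1 - κ') * (κ - 1)
  have hx : f c ∈ H := by
    have e : h * (f (1 - κ') * h') * h⁻¹ * (f (1 - κ') * h')⁻¹ = f c := by
      rw [show h * (f (1 - κ') * h') * h⁻¹ * (f (1 - κ') * h')⁻¹ =
          (h * f (1 - κ') * h⁻¹) * (h * h') * h⁻¹ * h'⁻¹ * (f (1 - κ'))⁻¹ by group, hconj, hcomm,
        mul_assoc _ (h' * h) h⁻¹, mul_inv_cancel_right, mul_inv_cancel_right, finv, hadd]
      congr 1
      simp only [c]
      ring
    rw [← e]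
    exact mul_mem (mul_mem (mul_mem hh hz) (inv_mem hh)) (inv_mem hz)
  have hc : c ≠ 0 := mul_ne_zero (sub_ne_zero.2 (Ne.symm hκ')) (sub_ne_zero.2 hκ)
  have hpow : ∀ n : ℕ, f (κ ^ n * c) ∈ H := by
    intro n
    induction n with
    | zero => simpa using hx
    | succ n ih =>
      rw [pow_succ', mul_assoc, ← hconj]
      exact mul_mem (mul_mem hh ih) (inv_mem hh)
  have hall : ∀ t, f t ∈ H := by
    intro t
    rcases eq_or_ne t 0 with rfl | ht
    · rw [f0]; exact one_mem _
    · obtain ⟨n, hn⟩ := hgen (t / c) (div_ne_zero ht hc)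
      have := hpow n
      rwa [← hn, div_mul_cancel₀ _ hc] at this
  exact ⟨by simpa using mul_mem (inv_mem (hall 1)) hy, hall⟩

end Group

/-! ### Words in reflections -/

variable {D : ChevalleyDatum}

/-- The image of a root under a word in fundamental reflections. -/
def wRef (D : ChevalleyDatum) (L : List ℕ) (s : ℕ) : ℕ := L.foldr (fun i x => reflT D i x) s

/-- The sign of a word in the `n_i` on a root. -/
def wSgn (D : ChevalleyDatum) : List ℕ → ℕ → ℤ
  | [], _ => 1
  | i :: L, s => etaT D i (wRef D L s) * wSgn D L s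

/-- All entries are nodes. -/
def okWord (D : ChevalleyDatum) (L : List ℕ) : Bool := L.all fun i => decide (i < D.rank)

section

variable {K : Type*} [Field K]

/-- `n_i`, and `1` out of range. -/
def nN (hW : GoodWeyl D) (i : ℕ) : GL D.Idx K :=
  if h : i < D.rank then nR hW ⟨i, h⟩ else 1

/-- A product of `n_i`. -/
def wEl (hW : GoodWeyl D) (L : List ℕ) : GL D.Idx K := (L.map (nN hW)).prod

theorem wEl_mem {hW : GoodWeyl D} {H : Subgroup (GL D.Idx K)} {L : List ℕ}
    (h : ∀ i ∈ L, (nN hW i : GL D.Idx K) ∈ H) : wEl hW L ∈ H :=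
  Subgroup.list_prod_mem _ fun g hg => by
    obtain ⟨i, hi, rfl⟩ := List.mem_map.1 hg
    exact h i hi

theorem wEl_conj_wordGL (hW : GoodWeyl D) (L : List ℕ) (hL : okWord D L = true) (r : Root D)
    (t : K) : ∃ s : Root D, (s : ℕ) = wRef D L r ∧
      (∀ u : Kˣ, wEl hW L * hT K r u * (wEl hW L)⁻¹ = hT K s u) ∧
      wEl hW L * X hW.good r t * (wEl hW L)⁻¹ = X hW.good s ((wSgn D L r : K) * t) := by
  induction L with
  | nil => exact ⟨r, rfl, fun u => by simp [wEl], by simp [wEl, wSgn]⟩
  | cons i L ih =>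
    simp only [okWord, List.all_cons, Bool.and_eq_true, decide_eq_true_eq] at hL
    obtain ⟨s, hs, hT', hX⟩ := ih (by simpa [okWord] using hL.2)
    have e : ∀ g : GL D.Idx K, wEl hW (i :: L) * g * (wEl hW (i :: L))⁻¹ =
        nR hW ⟨i, hL.1⟩ * (wEl hW L * g * (wEl hW L)⁻¹) * (nR hW ⟨i, hL.1⟩)⁻¹ := fun g => by
      simp only [wEl, List.map_cons, List.prod_cons, nN, dif_pos hL.1]
      group
    refine ⟨wPerm hW ⟨i, hL.1⟩ s, ?_, fun u => ?_, ?_⟩
    · rw [wPerm_eq_reflT, hs]; rfl
    · rw [e, hT', nR_conj_hT]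
    · rw [e, hX, nR_conj]
      congr 1
      simp only [wSgn, eta, hs]
      push_cast
      ring

/-! ### Families -/

/-- `[(r₀, t), (r₁, t^q), (r₂, t^(q²)), …]`. -/
def famWord (q : ℕ) (fam : List ℕ) (t : K) : List (ℕ × K) :=
  fam.zipIdx.map fun p => (p.1, t ^ q ^ p.2)

/-- The element of a family. -/
def famEl (hW : GoodWeyl D) (q : ℕ) (fam : List ℕ) (t : K) : GL D.Idx K :=
  wordGL hW.good (famWord q fam t)

theorem wordGL_eq_prod (hW : GoodWeyl D) (w : List (ℕ × K)) :
    wordGL hW.good w = (w.map fun p => wordGL hW.good [p]).prod := by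
  induction w with
  | nil => rfl
  | cons p w ih =>
    simp only [wordGL, List.map_cons, List.prod_cons, List.map_nil, List.prod_nil, mul_one] at ih ⊢
    try rw [← ih]

theorem wordGL_single (hW : GoodWeyl D) {r : ℕ} (hr : r < D.nroots) (t : K) :
    wordGL hW.good [(r, t)] = X hW.good ⟨r, hr⟩ t := by
  simp [wordGL, hr]

theorem wordGL_pair (hW : GoodWeyl D) {r s : ℕ} (hr : r < D.nroots) (hs : s < D.nroots) (t u : K) :
    wordGL hW.good [(r, t), (s, u)] = X hW.good ⟨r, hr⟩ t * X hW.good ⟨s, hs⟩ u := by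
  simp [wordGL, hr, hs]

/-- All pairs in the list commute by the tables. -/
def commutesAll (D : ChevalleyDatum) : List ℕ → Bool
  | [] => true
  | r :: rest => decide (r < D.nroots) && rest.all (fun s => commutes D r s) && commutesAll D rest

theorem lt_of_commutesAll {L : List ℕ} (h : commutesAll D L = true) : ∀ r ∈ L, r < D.nroots := by
  induction L with
  | nil => simp
  | cons r L ih =>
    simp only [commutesAll, Bool.and_eq_true, decide_eq_true_eq] at h
    exact List.forall_mem_cons.2 ⟨h.1.1, ih h.2⟩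

theorem commute_wordGL (hC : GoodComm D) (hW : GoodWeyl D) {r s : ℕ} (h : commutes D r s = true)
    (t u : K) : Commute (wordGL hW.good [(r, t)]) (wordGL hW.good [(s, u)]) := by
  have h' := h
  simp only [commutes, Bool.and_eq_true, decide_eq_true_eq] at h'
  rw [wordGL_single hW h'.1.1.1.1, wordGL_single hW h'.1.1.1.2]
  exact commute_of_commutes hC hW h t u _ _

theorem pairwise_fam (hC : GoodComm D) (hW : GoodWeyl D) {fam : List ℕ}
    (h : commutesAll D fam = true) (f g : ℕ × ℕ → K) :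
    fam.zipIdx.Pairwise fun i j =>
      Commute (wordGL hW.good [(i.1, f i)]) (wordGL hW.good [(j.1, g j)]) := by
  suffices ∀ k, (fam.zipIdx k).Pairwise fun i j =>
      Commute (wordGL hW.good [(i.1, f i)]) (wordGL hW.good [(j.1, g j)]) from this 0
  induction fam with
  | nil => simp
  | cons r L ih =>
    intro k
    simp only [commutesAll, Bool.and_eq_true, List.all_eq_true, decide_eq_true_eq] at h
    rw [List.zipIdx_cons, List.pairwise_cons]
    refine ⟨fun p hp => ?_, ih h.2 (k + 1)⟩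
    have : p.1 ∈ L := List.fst_mem_of_mem_zipIdx hp
    exact commute_wordGL hC hW (h.1.2 _ this) _ _

theorem famEl_add (hC : GoodComm D) (hW : GoodWeyl D) {q : ℕ} (hq : ∀ i s t,
      ((s + t : K)) ^ q ^ (i : ℕ) = s ^ q ^ i + t ^ q ^ i) {fam : List ℕ}
    (h : commutesAll D fam = true) (s t : K) :
    famEl hW q fam s * famEl hW q fam t = famEl hW q fam (s + t) := by
  simp only [famEl, famWord]
  rw [wordGL_eq_prod hW, wordGL_eq_prod hW (fam.zipIdx.map fun p => (p.1, t ^ q ^ p.2)),
    wordGL_eq_prod hW (fam.zipIdx.map fun p => (p.1, (s + t) ^ q ^ p.2))]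
  simp only [List.map_map]
  rw [prod_interleave]
  rotate_left
  · exact pairwise_fam hC hW h (fun p => t ^ q ^ p.2) (fun p => s ^ q ^ p.2)
  refine congrArg List.prod (List.map_congr_left fun p hp => ?_)
  have hlt := lt_of_commutesAll h _ (List.fst_mem_of_mem_zipIdx hp)
  simp only [Function.comp_apply, wordGL_single hW hlt, X_mul, hq]

/-- The image of a family under a word. -/
def famRef (D : ChevalleyDatum) (L : List ℕ) (fam : List ℕ) : List ℕ := fam.map (wRef D L)

/-- The word has the same sign on every member. -/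
def sameSgn (D : ChevalleyDatum) (L : List ℕ) (fam : List ℕ) : Bool :=
  fam.all fun r => decide (r < D.nroots) && (wSgn D L r == wSgn D L (fam.headD 0))

theorem wSgn_sq (hW : GoodWeyl D) (L : List ℕ) (hL : okWord D L = true) (r : Root D) :
    wSgn D L r * wSgn D L r = 1 := by
  induction L with
  | nil => rfl
  | cons i L ih =>
    simp only [okWord, List.all_cons, Bool.and_eq_true, decide_eq_true_eq] at hL
    have h1 := ih (by simpa [okWord] using hL.2)
    obtain ⟨s, hs, -⟩ := wEl_conj_wordGL (K := ℚ) hW L (by simpa [okWord] using hL.2) r 0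
    have h2 : etaT D i (wRef D L r) * etaT D i (wRef D L r) = 1 := hs ▸ hW.eta_sq ⟨i, hL.1⟩ s
    simp only [wSgn]
    linear_combination (etaT D i (wRef D L r) * etaT D i (wRef D L r)) * h1 + h2

theorem famEl_conj_wEl (hW : GoodWeyl D) {q : ℕ} (hneg : ∀ i : ℕ, (-1 : K) ^ q ^ i = -1)
    {L fam : List ℕ} (hL : okWord D L = true) (h : sameSgn D L fam = true) :
    ∃ ε : K, ε * ε = 1 ∧ ∀ t : K, wEl hW L * famEl hW q fam t * (wEl hW L)⁻¹ =
      famEl hW q (famRef D L fam) (ε * t) := by
  simp only [sameSgn, List.all_eq_true, Bool.and_eq_true, decide_eq_true_eq, beq_iff_eq] at h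
  set e : ℤ := wSgn D L (fam.headD 0)
  by_cases hnil : fam = []
  · exact ⟨1, one_mul 1, fun t => by subst hnil; simp [famEl, famWord, famRef, wordGL]⟩
  obtain ⟨r₀, hr₀⟩ := List.exists_mem_of_ne_nil fam hnil
  have he : (e : K) * e = 1 := by
    rw [← (h r₀ hr₀).2, ← Int.cast_mul, show r₀ = ((⟨r₀, (h r₀ hr₀).1⟩ : Root D) : ℕ) from rfl,
      wSgn_sq hW L hL, Int.cast_one]
  have hei : ∀ i : ℕ, (e : K) ^ q ^ i = e := fun i => by
    rcases mul_self_eq_one_iff.1 he with he' | he' <;> rw [he']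
    · rw [one_pow]
    · exact hneg i
  refine ⟨e, he, fun t => ?_⟩
  simp only [famEl, famWord, famRef, List.zipIdx_map]
  rw [wordGL_eq_prod hW, wordGL_eq_prod hW ((_ : List (ℕ × ℕ)).map _), List.map_map, List.map_map]
  show MulAut.conj (wEl hW L) _ = _
  rw [map_list_prod, List.map_map, List.map_map]
  refine congrArg List.prod (List.map_congr_left fun p hp => ?_)
  obtain ⟨hlt, hs'⟩ := h _ (List.fst_mem_of_mem_zipIdx hp)
  obtain ⟨s, hs, -, hX⟩ := wEl_conj_wordGL hW L hL ⟨p.1, hlt⟩ (t ^ q ^ p.2)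
  simp only [Function.comp_apply, Prod.map_fst, Prod.map_snd, id, MulAut.conj_apply]
  rw [wordGL_single hW hlt, hX, ← hs, wordGL_single hW s.isLt, mul_pow, hei,
    show wSgn D L ((⟨p.1, hlt⟩ : Root D) : ℕ) = e from hs']

/-- `∏ h_{r_i}(ω^(q^i))`. -/
def famTor (D : ChevalleyDatum) (q : ℕ) (fam : List ℕ) (ω : Kˣ) : GL D.Idx K :=
  (fam.zipIdx.map fun p => if h : p.1 < D.nroots then hT K ⟨p.1, h⟩ (ω ^ q ^ p.2) else 1).prod

theorem famTor_conj_wEl (hW : GoodWeyl D) {L fam : List ℕ} (hL : okWord D L = true)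
    (h : ∀ r ∈ fam, r < D.nroots) (q : ℕ) (ω : Kˣ) :
    wEl hW L * famTor D q fam ω * (wEl hW L)⁻¹ = famTor D q (famRef D L fam) ω := by
  show MulAut.conj (wEl hW L) _ = _
  simp only [famTor, famRef, List.zipIdx_map, map_list_prod, List.map_map]
  refine congrArg List.prod (List.map_congr_left fun p hp => ?_)
  have hlt := h _ (List.fst_mem_of_mem_zipIdx hp)
  obtain ⟨s, hs, hT', -⟩ := wEl_conj_wordGL (K := K) hW L hL ⟨p.1, hlt⟩ 0
  simp only [Function.comp_apply, Prod.map_fst, Prod.map_snd, id, MulAut.conj_apply, dif_pos hlt]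
  rw [hT', dif_pos (hs ▸ s.isLt)]
  congr 1
  exact Fin.ext hs

/-- The exponent of the torus element of a family on a root. -/
def famExp (D : ChevalleyDatum) (q : ℕ) (fam : List ℕ) (s : ℕ) : ℤ :=
  (fam.zipIdx.map fun p => ((q : ℤ) ^ p.2) * D.pairing p.1 s).sum

theorem famTor_conj_X (hW : GoodWeyl D) {fam : List ℕ} (h : ∀ r ∈ fam, r < D.nroots) (q : ℕ)
    (ω : Kˣ) (s : Root D) (u : K) :
    famTor D q fam ω * X hW.good s u * (famTor D q fam ω)⁻¹ =
      X hW.good s (((ω ^ famExp D q fam s : Kˣ) : K) * u) := by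
  suffices ∀ L : List (ℕ × ℕ), (∀ p ∈ L, p.1 < D.nroots) →
      (L.map fun p => if h : p.1 < D.nroots then hT K ⟨p.1, h⟩ (ω ^ q ^ p.2) else 1).prod *
        X hW.good s u *
        ((L.map fun p => if h : p.1 < D.nroots then hT K ⟨p.1, h⟩ (ω ^ q ^ p.2) else 1).prod)⁻¹ =
      X hW.good s (((ω ^ (L.map fun p => ((q : ℤ) ^ p.2) * D.pairing p.1 s).sum : Kˣ) : K) * u) from
    this _ fun p hp => h _ (List.fst_mem_of_mem_zipIdx hp)
  intro L hL
  induction L with
  | nil => simp
  | cons p L ih =>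
    obtain ⟨hp, hL'⟩ := List.forall_mem_cons.1 hL
    simp only [List.map_cons, List.prod_cons, List.sum_cons, dif_pos hp]
    rw [mul_inv_rev, ← mul_assoc, mul_assoc (hT K _ _), mul_assoc (hT K _ _), ih hL',
      hT_conj_X hW, zpow_add, Units.val_mul, mul_assoc, zpow_mul, ← Nat.cast_pow, zpow_natCast]

theorem famTor_mem_diagonal (hW : GoodWeyl D) (q : ℕ) (fam : List ℕ) (ω : Kˣ) :
    famTor D q fam ω ∈ D.diagonalSubgroup K := by
  refine Subgroup.list_prod_mem _ fun g hg => ?_
  obtain ⟨p, -, rfl⟩ := List.mem_map.1 hg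
  split
  · exact hT_mem_diagonal hW _ _
  · exact one_mem _

theorem famTor_pow (hW : GoodWeyl D) (q : ℕ) (fam : List ℕ) (ω : Kˣ) {N : ℕ} (hN : ω ^ N = 1) :
    famTor D q fam ω ^ N = 1 := by
  simp only [famTor]
  induction fam.zipIdx with
  | nil => simp
  | cons p L ih =>
    have hmem : (L.map fun p =>
        if h : p.1 < D.nroots then hT K ⟨p.1, h⟩ (ω ^ q ^ p.2) else 1).prod ∈
        D.diagonalSubgroup K := Subgroup.list_prod_mem _ fun g hg => by
      obtain ⟨p, -, rfl⟩ := List.mem_map.1 hg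
      split
      · exact hT_mem_diagonal hW _ _
      · exact one_mem _
    rw [List.map_cons, List.prod_cons]
    have hd : (if h : p.1 < D.nroots then hT K ⟨p.1, h⟩ (ω ^ q ^ p.2) else 1) ∈
        D.diagonalSubgroup K := by
      split
      · exact hT_mem_diagonal hW _ _
      · exact one_mem _
    rw [(show Commute _ _ from diag_comm hW hd hmem).mul_pow, ih, mul_one]
    split
    · have : ∀ (r : Root D) (v : Kˣ) (n : ℕ), hT K r v ^ n = hT K r (v ^ n) := fun r v n => by
        induction n with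
        | zero => simp [hT_one]
        | succ n ih => rw [pow_succ, ih, hT_mul, pow_succ]
      rw [this, ← pow_mul, mul_comm, pow_mul, hN, one_pow, hT_one]
    · exact one_pow _

/-- The check that `[fam, -fam]` form orthogonal rank one subgroups. -/
def orthFam (D : ChevalleyDatum) (fam : List ℕ) : Bool :=
  commutesAll D fam && commutesAll D (fam.map (opp D)) &&
    fam.all fun r => decide (r < D.nroots) &&
      fam.all fun s => r == s || (commutes D r (opp D s) && commutes D (opp D r) s)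

/-- The element `Y(t) Y⁻(-t⁻¹) Y(t)` of a family. -/
def famN (hW : GoodWeyl D) (q : ℕ) (fam : List ℕ) (t : Kˣ) : GL D.Idx K :=
  famEl hW q fam (t : K) * famEl hW q (fam.map (opp D)) (-((t⁻¹ : Kˣ) : K)) *
    famEl hW q fam (t : K)

/-- `n_r(t)` by the number of the root. -/
def nOf (hW : GoodWeyl D) (r : ℕ) (t : Kˣ) : GL D.Idx K :=
  if h : r < D.nroots then nElt hW.good ⟨r, h⟩ t else 1

theorem rev_eq_opp (hW : GoodWeyl D) (r : Root D) : (r.rev : ℕ) = opp D r := by
  rw [← hW.good.neg_fin, hW.good.neg_eq r.isLt]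

theorem famN_eq (hC : GoodComm D) (hW : GoodWeyl D) {q : ℕ} (hneg : ∀ i : ℕ, (-1 : K) ^ q ^ i = -1)
    {fam : List ℕ} (h : orthFam D fam = true) (hnd : fam.Nodup) (t : Kˣ) :
    famN hW q fam t = (fam.zipIdx.map fun p => nOf hW p.1 (t ^ q ^ p.2)).prod := by
  simp only [orthFam, Bool.and_eq_true, List.all_eq_true, Bool.or_eq_true, beq_iff_eq,
    decide_eq_true_eq] at h
  obtain ⟨⟨h1, h2⟩, h3⟩ := h
  simp only [famN, famEl, famWord, List.zipIdx_map]
  rw [wordGL_eq_prod hW, wordGL_eq_prod hW ((_ : List (ℕ × ℕ)).map _)]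
  simp only [List.map_map]
  have hpw : fam.zipIdx.Pairwise fun i j => i.1 ≠ j.1 := by
    have := List.pairwise_map.1 (by rw [List.zipIdx_map_fst]; exact hnd :
      (fam.zipIdx.map Prod.fst).Pairwise (· ≠ ·))
    exact this
  have hA := pairwise_fam hC hW h1 (fun p => (t : K) ^ q ^ p.2) (fun p => (t : K) ^ q ^ p.2)
  rw [prod_interleave, prod_interleave]
  rotate_left
  · refine (hA.and hpw).imp_of_mem fun {i j} hi hj hij => ?_
    simp only [Function.comp_apply, Prod.map_fst, Prod.map_snd, id]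
    refine Commute.mul_right hij.1 ?_
    rcases (h3 _ (List.fst_mem_of_mem_zipIdx hi)).2 _ (List.fst_mem_of_mem_zipIdx hj) with e | ⟨e, -⟩
    · exact absurd e hij.2
    · exact commute_wordGL hC hW e _ _
  · refine hpw.imp_of_mem fun {i j} hi hj hij => ?_
    simp only [Function.comp_apply, Prod.map_fst, Prod.map_snd, id]
    rcases (h3 _ (List.fst_mem_of_mem_zipIdx hi)).2 _ (List.fst_mem_of_mem_zipIdx hj) with e | ⟨-, e⟩
    · exact absurd e hij
    · exact commute_wordGL hC hW e _ _
  refine congrArg List.prod (List.map_congr_left fun p hp => ?_)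
  have hlt := (h3 _ (List.fst_mem_of_mem_zipIdx hp)).1
  simp only [Function.comp_apply, Prod.map_fst, Prod.map_snd, id, nOf, dif_pos hlt, nElt]
  have hlt' : opp D p.1 < D.nroots := by simp only [opp]; omega
  rw [wordGL_single hW hlt, wordGL_single hW hlt']
  rw [show (⟨p.1, hlt⟩ : Root D).rev = ⟨opp D p.1, hlt'⟩ from
    Fin.ext (rev_eq_opp hW ⟨p.1, hlt⟩)]
  congr 3
  rw [show (-((t⁻¹ : Kˣ) : K)) = -1 * ((t⁻¹ : Kˣ) : K) by ring, mul_pow, hneg, neg_one_mul,
    ← Units.val_pow_eq_pow_val, inv_pow]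

end

end CfsgLib.ChevGen
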