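import Cfsg.Agent.ReeF4.Perfect
import Cfsg.Agent.ReeF4.Count
import Cfsg.Agent.ChevGen.Twisted
/-!
Two generators of the large Ree groups: the product of a torus element and a commuting element of
order four, and the product of a root element with the Coxeter element of the dihedral group.
-/

set_option autoImplicit false
set_option linter.unusedSectionVars false

namespace CfsgLib.ChevGen.ReeLarge

open Cfsg.Lie CfsgLib.Chevalley CfsgLib.ReeF4

variable {K : Type*} [Field K] [CharP K 2] (T : Tw K)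

/-- The Cartan numbers at the four nodes. -/
def cvals (r : Root D) : List ℤ :=
  [D.cartan (nd 0) r, D.cartan (nd 1) r, D.cartan (nd 2) r, D.cartan (nd 3) r]

theorem cvals_table :
    [cvals (rt 24), cvals (rt 33), cvals (rt 25), cvals (rt 27), cvals (rt 28), cvals (rt 30),
      cvals (dp (.r 1)⁻¹ (rt 24)), cvals (dp (.r 1)⁻¹ (rt 33)),
      cvals (dp (.r 1) (rt 25)), cvals (dp (.r 1) (rt 27)), cvals (dp (.r 1) (rt 28)),
      cvals (dp (.r 1) (rt 30))] =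
    [[0, 0, -1, 2], [2, -1, 0, 0], [0, -2, 2, -1], [-1, 2, -1, 0], [-1, 0, 1, -1], [-2, 2, 0, -1],
      [2, 0, -1, 0], [0, -1, 0, 1],
      [0, 2, -1, -1], [-1, -1, 1, 0], [-1, 1, 0, -1], [-2, 0, 1, -1]] := by
  decide +kernel

/-- The exponent of the torus element on a root, in terms of `e = 2 ^ m`. -/
def expo (e : ℤ) (r : Root D) : ℤ :=
  let S := 4 * e + 3
  let B := S * (2 - 2 * e)
  e * B * (cvals r).getD 0 0 + e * S * (cvals r).getD 1 0 + S * (cvals r).getD 2 0 +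
    B * (cvals r).getD 3 0

variable (ω : Kˣ)

/-- The torus element. -/
def torEl : GL D.Idx K :=
  T.tor2 (ω ^ (4 * (2 ^ T.m : ℤ) + 3), ω ^ ((4 * (2 ^ T.m : ℤ) + 3) * (2 - 2 * 2 ^ T.m)))

theorem θU_zpow (n : ℤ) : T.θU (ω ^ n) = ω ^ ((2 ^ T.m : ℤ) * n) := by
  have h : ∀ v : Kˣ, T.θU v = v ^ (2 ^ T.m : ℕ) := fun v =>
    Units.ext (by rw [Units.val_pow_eq_pow_val, ← T.θ_def]; rfl)
  rw [map_zpow, h, ← zpow_natCast, ← zpow_mul, mul_comm]
  congr 1
  push_cast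
  ring

theorem torEl_conj (r : Root D) (v : K) :
    torEl T ω * x K r v * (torEl T ω)⁻¹ = x K r (((ω ^ expo (2 ^ T.m) r : Kˣ) : K) * v) := by
  rw [torEl, T.tor2_apply]
  refine (ChevSimple.torC_conj_X hW.good _ r v).trans ?_
  rw [chi_mk4, θU_zpow, θU_zpow, ← zpow_mul, ← zpow_mul, ← zpow_mul, ← zpow_mul, ← zpow_add,
    ← zpow_add, ← zpow_add]
  simp only [expo, cvals, List.getD_cons_zero, List.getD_cons_succ]

theorem mon_cox : Mon (n₀ K * n₁ K) (dP (.r 1)) := dP_gen ▸ mon_n₀.mul mon_n₁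

theorem torEl_conj_up (r : Root D) (v : K) :
    n₀ K * n₁ K * torEl T ω * (n₀ K * n₁ K)⁻¹ * x K r v *
        (n₀ K * n₁ K * torEl T ω * (n₀ K * n₁ K)⁻¹)⁻¹ =
      x K r (((ω ^ expo (2 ^ T.m) (dp (.r 1)⁻¹ r) : Kˣ) : K) * v) := by
  have hi := (mon_cox (K := K)).inv r v
  have hf := (mon_cox (K := K)) (dP (.r 1)⁻¹ r)
    (((ω ^ expo (2 ^ T.m) (dp (.r 1)⁻¹ r) : Kˣ) : K) * v)
  rw [map_inv, show dP (.r 1) ((dP (.r 1))⁻¹ r) = r from (dP (.r 1)).apply_symm_apply r] at hf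
  rw [← map_inv] at hi
  rw [inv_inv] at hi
  rw [show n₀ K * n₁ K * torEl T ω * (n₀ K * n₁ K)⁻¹ * x K r v *
      (n₀ K * n₁ K * torEl T ω * (n₀ K * n₁ K)⁻¹)⁻¹ = n₀ K * n₁ K * (torEl T ω *
        ((n₀ K * n₁ K)⁻¹ * x K r v * (n₀ K * n₁ K)) * (torEl T ω)⁻¹) * (n₀ K * n₁ K)⁻¹ by group,
    hi, torEl_conj, ← hf, ← dP_apply, map_inv]

theorem torEl_conj_down (r : Root D) (v : K) :
    (n₀ K * n₁ K)⁻¹ * torEl T ω * (n₀ K * n₁ K) * x K r v *
        ((n₀ K * n₁ K)⁻¹ * torEl T ω * (n₀ K * n₁ K))⁻¹ =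
      x K r (((ω ^ expo (2 ^ T.m) (dp (.r 1) r) : Kˣ) : K) * v) := by
  have hi := (mon_cox (K := K)) r v
  have hf := (mon_cox (K := K)).inv (dP (.r 1) r)
    (((ω ^ expo (2 ^ T.m) (dp (.r 1) r) : Kˣ) : K) * v)
  rw [show (dP (.r 1))⁻¹ (dP (.r 1) r) = r from (dP (.r 1)).symm_apply_apply r, inv_inv] at hf
  rw [show (n₀ K * n₁ K)⁻¹ * torEl T ω * (n₀ K * n₁ K) * x K r v *
      ((n₀ K * n₁ K)⁻¹ * torEl T ω * (n₀ K * n₁ K))⁻¹ = (n₀ K * n₁ K)⁻¹ * (torEl T ω *
        (n₀ K * n₁ K * x K r v * (n₀ K * n₁ K)⁻¹) * (torEl T ω)⁻¹) * (n₀ K * n₁ K) by group,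
    hi, torEl_conj, ← hf, ← dP_apply]

variable {ω} [Finite K]

/-- `ω^a = θ`-images by congruences. -/
theorem zpow_congr {a b : ℤ} {N : ℤ} (hN : ω ^ N = 1) (h : ∃ k, a = b + N * k) : ω ^ a = ω ^ b := by
  obtain ⟨k, rfl⟩ := h
  rw [zpow_add, zpow_mul, hN, one_zpow, mul_one]

theorem expo_facts (hN : ω ^ (2 * (2 ^ T.m : ℤ) ^ 2 - 1) = 1) :
    let e : ℤ := 2 ^ T.m
    let P := fun r => ω ^ expo e r
    (P (rt 24) = ω ^ (1 : ℤ) ∧ P (rt 33) = ω ^ e) ∧
    (P (rt 25) = ω ^ (0 : ℤ) ∧ P (rt 27) = ω ^ (0 : ℤ) ∧ P (rt 28) = ω ^ (0 : ℤ) ∧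
      P (rt 30) = ω ^ (0 : ℤ)) ∧
    (P (dp (.r 1)⁻¹ (rt 24)) = ω ^ (-1 : ℤ) ∧ P (dp (.r 1)⁻¹ (rt 33)) = ω ^ (-e)) ∧
    (P (dp (.r 1) (rt 25)) = ω ^ (-1 : ℤ) ∧ P (dp (.r 1) (rt 27)) = ω ^ (-e) ∧
      P (dp (.r 1) (rt 28)) = ω ^ (-(e + 1)) ∧ P (dp (.r 1) (rt 30)) = ω ^ (-(2 * e * (e + 1)))) := by
  intro e P
  have h := cvals_table
  simp only [List.cons.injEq, and_true] at h
  obtain ⟨h1, h2, h3, h4, h5, h6, h7, h8, h9, h10, h11, h12⟩ := h
  refine ⟨⟨?_, ?_⟩, ⟨?_, ?_, ?_, ?_⟩, ⟨?_, ?_⟩, ?_, ?_, ?_, ?_⟩ <;>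
    refine zpow_congr hN ?_
  · exact ⟨-8, by simp only [expo, h1, List.getD_cons_zero, List.getD_cons_succ]; ring⟩
  · exact ⟨-8 * e, by simp only [expo, h2, List.getD_cons_zero, List.getD_cons_succ]; ring⟩
  · exact ⟨0, by simp only [expo, h3, List.getD_cons_zero, List.getD_cons_succ]; ring⟩
  · exact ⟨4 * e + 3, by simp only [expo, h4, List.getD_cons_zero, List.getD_cons_succ]; ring⟩
  · exact ⟨4 * e + 3, by simp only [expo, h5, List.getD_cons_zero, List.getD_cons_succ]; ring⟩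
  · exact ⟨2 * (4 * e + 3), by simp only [expo, h6, List.getD_cons_zero, List.getD_cons_succ]; ring⟩
  · exact ⟨8 - 2 * (4 * e + 3), by
      simp only [expo, h7, List.getD_cons_zero, List.getD_cons_succ]; ring⟩
  · exact ⟨-6, by simp only [expo, h8, List.getD_cons_zero, List.getD_cons_succ]; ring⟩
  · exact ⟨8, by simp only [expo, h9, List.getD_cons_zero, List.getD_cons_succ]; ring⟩
  · exact ⟨4 * e + 3 - 6, by
      simp only [expo, h10, List.getD_cons_zero, List.getD_cons_succ]; ring⟩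
  · exact ⟨4 * e + 3 + 2, by
      simp only [expo, h11, List.getD_cons_zero, List.getD_cons_succ]; ring⟩
  · exact ⟨2 * (4 * e + 3) - 3, by
      simp only [expo, h12, List.getD_cons_zero, List.getD_cons_succ]; ring⟩

theorem theta_zpow (n : ℤ) : ((ω ^ ((2 ^ T.m : ℤ) * n) : Kˣ) : K) = T.θ ((ω ^ n : Kˣ) : K) := by
  rw [← θU_zpow]; rfl

theorem pairE_add (v w : K) : T.pairE false v * T.pairE false w = T.pairE false (v + w) := by
  simp only [Tw.pairE, Bool.false_eq_true, if_false, map_add, ← x_mul]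
  calc x K (rt 33) (T.θ v) * x K (rt 24) v * (x K (rt 33) (T.θ w) * x K (rt 24) w)
      = x K (rt 33) (T.θ v) * (x K (rt 24) v * x K (rt 33) (T.θ w)) * x K (rt 24) w := by group
    _ = _ := by rw [(commute_24_33 _ _).eq]; group

theorem conj_pairE {g : GL D.Idx K} {n : ℤ}
    (h24 : ∀ v : K, g * x K (rt 24) v * g⁻¹ = x K (rt 24) (((ω ^ n : Kˣ) : K) * v))
    (h33 : ∀ v : K, g * x K (rt 33) v * g⁻¹ =
      x K (rt 33) (((ω ^ ((2 ^ T.m : ℤ) * n) : Kˣ) : K) * v)) (t : K) :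
    g * T.pairE false t * g⁻¹ = T.pairE false (((ω ^ n : Kˣ) : K) * t) := by
  simp only [Tw.pairE, Bool.false_eq_true, if_false, map_mul, ← theta_zpow T]
  rw [← h33, ← h24]
  group

theorem conj_clsE {g : GL D.Idx K} {n : ℤ}
    (h25 : ∀ v : K, g * x K (rt 25) v * g⁻¹ = x K (rt 25) (((ω ^ n : Kˣ) : K) * v))
    (h27 : ∀ v : K, g * x K (rt 27) v * g⁻¹ =
      x K (rt 27) (((ω ^ ((2 ^ T.m : ℤ) * n) : Kˣ) : K) * v))
    (h28 : ∀ v : K, g * x K (rt 28) v * g⁻¹ =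
      x K (rt 28) (((ω ^ ((2 ^ T.m : ℤ) * n + n) : Kˣ) : K) * v))
    (h30 : ∀ v : K, g * x K (rt 30) v * g⁻¹ =
      x K (rt 30) (((ω ^ (2 * ((2 ^ T.m : ℤ) * ((2 ^ T.m : ℤ) * n + n))) : Kˣ) : K) * v)) (t u : K) :
    g * T.clsE false t u * g⁻¹ = T.clsE false (((ω ^ n : Kˣ) : K) * t)
      (((ω ^ ((2 ^ T.m : ℤ) * n + n) : Kˣ) : K) * u) := by
  simp only [Tw.clsE, Tw.clsG, Bool.false_eq_true, if_false, map_mul, mul_pow, ← theta_zpow T]
  have e1 : ∀ a b : K, ((ω ^ ((2 ^ T.m : ℤ) * n) : Kˣ) : K) * a * (((ω ^ n : Kˣ) : K) * b) +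
      ((ω ^ ((2 ^ T.m : ℤ) * n + n) : Kˣ) : K) * u =
      ((ω ^ ((2 ^ T.m : ℤ) * n + n) : Kˣ) : K) * (a * b + u) := fun a b => by
    rw [zpow_add, Units.val_mul]; ring
  have e2 : ∀ a : K, ((ω ^ ((2 ^ T.m : ℤ) * ((2 ^ T.m : ℤ) * n + n)) : Kˣ) : K) ^ 2 * a =
      ((ω ^ (2 * ((2 ^ T.m : ℤ) * ((2 ^ T.m : ℤ) * n + n))) : Kˣ) : K) * a := fun a => by
    rw [← Units.val_pow_eq_pow_val, ← zpow_natCast, ← zpow_mul, mul_comm (2 : ℤ)]; rfl
  rw [e1, e2, ← h27, ← h25, ← h28, ← h30]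
  group

theorem mon_four (r : Root D) (t : K) :
    (n₀ K * n₁ K) ^ 4 * x K r t * ((n₀ K * n₁ K) ^ 4)⁻¹ = x K (dp (.r 4) r) t := by
  have := (mon_cox (K := K)).pow 4 r t
  rwa [← map_pow, show (DihedralGroup.r 1 : DihedralGroup 8) ^ 4 = .r 4 by decide] at this

theorem four_roots : dp (.r 4) (rt 33) = rt 14 ∧ dp (.r 4) (rt 24) = rt 23 ∧
    dp (.r 4) (rt 27) = rt 20 ∧ dp (.r 4) (rt 25) = rt 22 ∧ dp (.r 4) (rt 28) = rt 19 ∧
      dp (.r 4) (rt 30) = rt 17 := by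
  decide +kernel

theorem two_gen (hm : 1 ≤ T.m) (hK : Nat.card K = 2 ^ (2 * T.m + 1)) :
    ∃ a b : ↥T.G1, Subgroup.closure ({a, b} : Set ↥T.G1) = ⊤ := by
  obtain ⟨ω, hω⟩ := IsCyclic.exists_generator (α := Kˣ)
  have hord : orderOf ω = Nat.card K - 1 := by
    rw [orderOf_eq_card_of_forall_mem_zpowers hω, Nat.card_units]
  have hpos := Nat.card_pos (α := K)
  have hq8 : 8 ≤ Nat.card K := by
    rw [hK]
    exact le_trans (by norm_num) (Nat.pow_le_pow_right two_pos (by omega : 3 ≤ 2 * T.m + 1))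
  have hωq : ω ^ (Nat.card K - 1) = 1 := hord ▸ pow_orderOf_eq_one ω
  have hN : ω ^ (2 * (2 ^ T.m : ℤ) ^ 2 - 1) = 1 := by
    have e : (2 * (2 ^ T.m : ℤ) ^ 2 - 1) = ((Nat.card K - 1 : ℕ) : ℤ) := by
      rw [Nat.cast_sub (by omega), hK]; push_cast; ring
    rw [e, zpow_natCast, hωq]
  have hE := expo_facts T hN
  simp only at hE
  obtain ⟨⟨p24, p33⟩, ⟨z25, z27, z28, z30⟩, ⟨q24, q33⟩, c25, c27, c28, c30⟩ := hE
  set h := torEl T ω with hh_def
  set w : GL D.Idx K := n₀ K * n₁ K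
  set u := T.clsE false 1 0
  let a : ↥T.G1 := ⟨h * u, mul_mem (T.tor2_mem _) (T.cls_mem _ _ _)⟩
  let b : ↥T.G1 := ⟨T.pairE false 1 * w,
    mul_mem (T.pair_mem _ _) (mul_mem T.n₀_mem T.n₁_mem)⟩
  refine ⟨a, b, eq_top_iff.2 fun g _ => ?_⟩
  set S := Subgroup.closure ({a, b} : Set ↥T.G1)
  suffices hle : T.G1 ≤ S.map T.G1.subtype by
    obtain ⟨g', hg', e⟩ := Subgroup.mem_map.1 (hle g.2)
    rwa [← Subtype.ext e]
  set H := S.map T.G1.subtype
  have ha : h * u ∈ H := ⟨a, Subgroup.subset_closure (by simp), rfl⟩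
  have hy : T.pairE false 1 * w ∈ H := ⟨b, Subgroup.subset_closure (by simp), rfl⟩
  have hzero : T.clsE false 0 0 = 1 := by simp [Tw.clsE, Tw.clsG, x_zero]
  -- splitting
  have hcu : Commute h u := by
    have := conj_clsE (ω := ω) T (g := h) (n := 0)
      (fun v => by rw [torEl_conj, z25])
      (fun v => by rw [torEl_conj, z27, mul_zero])
      (fun v => by rw [torEl_conj, z28, mul_zero, add_zero])
      (fun v => by rw [torEl_conj, z30, mul_zero, add_zero, mul_zero, mul_zero]) 1 0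
    rw [zpow_zero, Units.val_one, one_mul, mul_zero, mul_inv_eq_iff_eq_mul] at this
    exact this
  have hpow : h ^ (Nat.card K - 1) = 1 := by
    simp only [hh_def, torEl]
    rw [← map_pow, Prod.pow_mk, ← zpow_natCast, ← zpow_natCast, ← zpow_mul, ← zpow_mul,
      mul_comm _ ((Nat.card K - 1 : ℕ) : ℤ), mul_comm _ ((Nat.card K - 1 : ℕ) : ℤ), zpow_mul,
      zpow_mul, zpow_natCast, hωq, one_zpow, one_zpow, ← Prod.one_eq_mk, map_one]
  have hu4 : u ^ Nat.card K = 1 := by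
    have e : u ^ 4 = 1 := by
      rw [show u ^ 4 = (u * u) * (u * u) from by rw [pow_succ, pow_succ, pow_two, mul_assoc (u * u)]]
      simp only [u, T.cls_mul, map_one, CharTwo.add_self_eq_zero, map_zero, zero_add, mul_zero,
        mul_one, hzero]
    obtain ⟨k, hk⟩ : 4 ∣ Nat.card K := by
      rw [hK, show (4 : ℕ) = 2 ^ 2 from rfl]
      exact pow_dvd_pow 2 (by omega)
    rw [hk, pow_mul, e, one_pow]
  have hu : u ∈ H := by
    have := inv_mem (pow_mem ha (Nat.card K - 1))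
    rwa [hcu.mul_pow, hpow, one_mul,
      inv_eq_of_mul_eq_one_right (show u ^ (Nat.card K - 1) * u = 1 by
        rw [← pow_succ, Nat.sub_add_cancel (by omega), hu4])] at this
  have hh : h ∈ H := by simpa using mul_mem ha (inv_mem hu)
  -- the pair family
  have hgen : ∀ t : K, t ≠ 0 → ∃ n : ℕ, t = (ω : K) ^ n := fun t ht => by
    obtain ⟨n, hn⟩ := mem_powers_iff_mem_zpowers.2 (hω (Units.mk0 t ht))
    exact ⟨n, by simpa using (congrArg Units.val hn).symm⟩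
  have hω1 : (ω : K) ≠ 1 := by
    intro e
    rw [show ω = 1 from Units.ext e, orderOf_one] at hord
    omega
  have hcomm : h * (w * h * w⁻¹) = w * h * w⁻¹ * h := by
    have hd : h ∈ D.diagonalSubgroup K := by
      rw [diagonalSubgroup_eq_range hW]
      exact ⟨_, rfl⟩
    have hwm : w ∈ D.monomialSubgroup K :=
      mul_mem (mul_mem (nR_mem_monomial hW _) (nR_mem_monomial hW _))
        (mul_mem (mul_mem (mul_mem (nR_mem_monomial hW _) (nR_mem_monomial hW _))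
          (nR_mem_monomial hW _)) (nR_mem_monomial hW _))
    exact diag_comm hW hd ((Subgroup.mem_normalizer_iff.1 (monomial_le_normalizer hW hwm) _).1 hd)
  obtain ⟨hw, hpair⟩ := family_step (H := H) (fun t => T.pairE false t) (pairE_add T) (h := h)
    (h' := w * h * w⁻¹) (w := w) rfl hcomm (κ := (ω : K)) (κ' := ((ω ^ (-1 : ℤ) : Kˣ) : K))
    (fun v => by
      have := conj_pairE (ω := ω) T (g := h) (n := 1) (fun v => by rw [torEl_conj, p24])
        (fun v => by rw [torEl_conj, p33, mul_one]) v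
      rwa [zpow_one] at this)
    (conj_pairE (ω := ω) T (n := -1) (fun v => by rw [torEl_conj_up, q24])
      (fun v => by rw [torEl_conj_up, q33, mul_neg_one])) hgen hω1
    (by
      rw [zpow_neg_one, Units.val_inv_eq_inv_val, Ne, inv_eq_one]
      exact hω1) hh hy
  -- the class of type B₂
  have hd' : w⁻¹ * h * w ∈ H := mul_mem (mul_mem (inv_mem hw) hh) hw
  have hcl : ∀ t : K, ∃ v, T.clsE false t v ∈ H := by
    intro t
    rcases eq_or_ne t 0 with rfl | ht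
    · exact ⟨0, by rw [hzero]; exact one_mem _⟩
    have hstep : ∀ n : ℕ, ∃ v, T.clsE false (((ω ^ (-1 : ℤ) : Kˣ) : K) ^ n) v ∈ H := by
      intro n
      induction n with
      | zero => exact ⟨0, by simpa using hu⟩
      | succ n ih =>
        obtain ⟨v, hv⟩ := ih
        refine ⟨((ω ^ ((2 ^ T.m : ℤ) * (-1) + (-1)) : Kˣ) : K) * v, ?_⟩
        have := mul_mem (mul_mem hd' hv) (inv_mem hd')
        rw [conj_clsE (ω := ω) T (n := -1) (fun v => by rw [torEl_conj_down, c25])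
          (fun v => by rw [torEl_conj_down, c27, mul_neg_one])
          (fun v => by rw [torEl_conj_down, c28, mul_neg_one, ← neg_add])
          (fun v => by
            rw [torEl_conj_down, c30]
            congr 4
            ring)] at this
        rwa [pow_succ']
    obtain ⟨n, hn⟩ := hgen t⁻¹ (inv_ne_zero ht)
    obtain ⟨v, hv⟩ := hstep n
    refine ⟨v, ?_⟩
    rwa [zpow_neg_one, Units.val_inv_eq_inv_val, inv_pow, ← hn, inv_inv] at hv
  have hlow : ∀ v : K, T.clsE false 0 v ∈ H := by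
    intro v
    have hsurj : Function.Surjective fun t : K => T.θ t * t := by
      refine Finite.injective_iff_surjective.1 fun s t e => ?_
      have key : ∀ z : K, (T.θ z * z) * T.θ (T.θ z * z) ^ 2 = z * z * (T.θ z * T.θ z * T.θ z) :=
        fun z => by rw [map_mul, mul_pow, T.θ_θ_sq]; ring
      rcases eq_or_ne s 0 with rfl | hs
      · rw [map_zero, zero_mul] at e
        rcases mul_eq_zero.1 e.symm with e' | e'
        · exact ((map_eq_zero T.θ).1 e').symm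
        · exact e'.symm
      rcases eq_or_ne t 0 with rfl | ht
      · rw [map_zero, zero_mul] at e
        rcases mul_eq_zero.1 e with e' | e'
        · exact (map_eq_zero T.θ).1 e'
        · exact e'
      have hr : T.θ (s / t) * (s / t) = 1 := by
        rw [map_div₀, div_mul_div_comm, e, div_self (mul_ne_zero ((map_ne_zero T.θ).2 ht) ht)]
      set r := s / t
      have h1 : T.θ (T.θ r * r) ^ 2 = 1 := by rw [hr, map_one, one_pow]
      rw [map_mul, mul_pow, T.θ_θ_sq] at h1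
      have h2 : T.θ r = 1 := by
        calc T.θ r = (T.θ r * r) * T.θ r := by rw [hr, one_mul]
          _ = r * T.θ r ^ 2 := by ring
          _ = 1 := h1
      rw [h2, one_mul] at hr
      exact (div_eq_one_iff_eq ht).1 hr
    obtain ⟨t, ht⟩ := hsurj v
    obtain ⟨v', hv⟩ := hcl t
    have := mul_mem hv hv
    rwa [T.cls_mul, CharTwo.add_self_eq_zero, CharTwo.add_self_eq_zero, zero_add,
      show T.θ t * t = v from ht] at this
  have hcls : ∀ t v : K, T.clsE false t v ∈ H := by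
    intro t v
    obtain ⟨v', hv'⟩ := hcl t
    have := mul_mem hv' (hlow (v + v'))
    rwa [T.cls_mul, add_zero, mul_zero, add_zero, ← add_assoc, add_comm v' v, add_assoc,
      CharTwo.add_self_eq_zero, add_zero] at this
  have hw4 : w ^ 4 ∈ H := pow_mem hw 4
  obtain ⟨r1, r2, r3, r4, r5, r6⟩ := four_roots
  refine T.G1_le (fun b t => ?_) (fun b t v => ?_) <;> cases b
  · exact hpair t
  · have := mul_mem (mul_mem hw4 (hpair t)) (inv_mem hw4)
    convert this using 1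
    simp only [Tw.pairE, Bool.false_eq_true, if_false, if_true]
    rw [← r1, ← r2, ← mon_four, ← mon_four]
    simp only [w]
    group
  · exact hcls t v
  · have := mul_mem (mul_mem hw4 (hcls t v)) (inv_mem hw4)
    convert this using 1
    simp only [Tw.clsE, Tw.clsG, Bool.false_eq_true, if_false, if_true]
    rw [← r3, ← r4, ← r5, ← r6, ← mon_four, ← mon_four, ← mon_four, ← mon_four]
    simp only [w]
    group

end CfsgLib.ChevGen.ReeLarge
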