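import Cfsg.Agent.ChevGen.TwistedPair
import Cfsg.Prelude.Def_LieTwisted
import Mathlib.RingTheory.Coprime.Lemmas
/-!
Two generators of `²E₆(q)` and `³D₄(q)`.
-/

set_option autoImplicit false

namespace CfsgLib.ChevGen

open Cfsg.Lie CfsgLib.Chevalley

/-- The certificate for `²E₆`. -/
def cfgE6 : TwCfg where
  lgens := [46, 25, 39, 32]
  sgens := [[56, 36], [15, 35], [42, 37], [29, 34]]
  blocks := [[0, 5], [2, 4], [1], [3]]
  famJ := [56, 36]
  k := 1
  famA := [56, 36]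
  rootP := 46
  cert := [(46, none), (60, none), (51, none), (65, none), (44, none), (47, none), (25, none),
    (11, none), (20, none), (6, none), (27, none), (46, some 24), (47, some 25)]
  moves := [[], [none, some 1, none, none], [none], [none, none, some 1, none, none]]

/-- The certificate for `³D₄`. -/
def cfgD4 : TwCfg where
  lgens := [14, 9]
  sgens := [[18, 13, 12], [5, 10, 11]]
  blocks := [[0, 2, 3], [1]]
  famJ := [18, 13, 12]
  k := 1
  famA := [18, 13, 12]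
  rootP := 14
  cert := [(14, none), (1, none), (0, none)]
  moves := [[], [none, some 1]]

theorem cfgE6_chk : cfgE6.chk chevE6 = true := by decide +kernel
theorem cfgD4_chk : cfgD4.chk chevD4 = true := by decide +kernel

theorem cfgE6_words {K : Type*} [Field K] (q : ℕ) : cfgE6.words q = e6Words K q := by
  ext w
  simp only [TwCfg.words, e6Words, cfgE6, Set.mem_union, Set.mem_setOf_eq, famWord]
  refine or_congr ?_ ?_
  · simp [e6p2, e6m2, e6p4, e6m4]
  · simp [e6p1, e6p6, e6m1, e6m6, e6p3, e6p5, e6m3, e6m5]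

theorem cfgD4_words {K : Type*} [Field K] (q : ℕ) : cfgD4.words q = d4Words K q := by
  ext w
  simp only [TwCfg.words, d4Words, cfgD4, Set.mem_union, Set.mem_setOf_eq, famWord]
  refine or_congr ?_ ?_
  · simp [d4p2, d4m2]
  · simp [d4p1, d4p3, d4p4, d4m1, d4m3, d4m4]

section Field

variable {K : Type*} [Field K] [Fintype K]

theorem frobenius_facts {q n : ℕ} (hq : IsPrimePow q) (hn : n ≠ 0)
    (hK : Fintype.card K = q ^ n) :
    (∀ (i : ℕ) (s t : K), (s + t) ^ q ^ i = s ^ q ^ i + t ^ q ^ i) ∧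
      (∀ t : K, t ^ q ^ n = t) ∧ ((Nat.card K : ℕ) : K) = 0 ∧ 2 ≤ q := by
  obtain ⟨p, k, hp, hk, rfl⟩ := hq
  have hp' : Fact p.Prime := ⟨hp.nat_prime⟩
  have : CharP K p := by
    obtain ⟨p', hp''⟩ := CharP.exists K
    obtain ⟨m, hp'p, hm⟩ := FiniteField.card K p'
    have hdvd : p ∣ p' ^ (m : ℕ) := by
      rw [← hm, hK, ← pow_mul]
      exact dvd_pow_self p (mul_ne_zero hk.ne' hn)
    rwa [← (Nat.prime_dvd_prime_iff_eq hp'.out hp'p).1 (hp'.out.dvd_of_dvd_pow hdvd)] at hp''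
  refine ⟨fun i s t => ?_, fun t => ?_, by rw [Nat.card_eq_fintype_card, FiniteField.cast_card_eq_zero], ?_⟩
  · rw [← pow_mul]; exact add_pow_char_pow s t p (k * i)
  · rw [← hK]; exact FiniteField.pow_card t
  · exact le_trans hp'.out.two_le (Nat.le_self_pow hk.ne' p)

theorem exists_unit_generator {q n : ℕ} (hK : Fintype.card K = q ^ n) :
    ∃ ω : Kˣ, (∀ u : Kˣ, u ∈ Subgroup.zpowers ω) ∧ orderOf ω = q ^ n - 1 := by
  obtain ⟨ω, hω⟩ := IsCyclic.exists_generator (α := Kˣ)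
  refine ⟨ω, hω, ?_⟩
  classical
  rw [orderOf_eq_card_of_forall_mem_zpowers hω, Nat.card_units, Nat.card_eq_fintype_card, hK]

theorem gen_of_coprime {ω : Kˣ} (hω : ∀ u : Kˣ, u ∈ Subgroup.zpowers ω) {P : ℤ}
    (hP : IsCoprime P (orderOf ω : ℤ)) (t : K) (ht : t ≠ 0) :
    ∃ n : ℕ, t = ((ω ^ P : Kˣ) : K) ^ n := by
  obtain ⟨u, v, huv⟩ := hP
  obtain ⟨j, hj⟩ := hω (Units.mk0 t ht)
  have h : Units.mk0 t ht ∈ Subgroup.zpowers (ω ^ P) := by
    refine ⟨u * j, ?_⟩
    simp only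
    rw [← zpow_mul, ← hj, zpow_eq_zpow_iff_modEq, Int.modEq_iff_dvd]
    exact ⟨j * v, by linear_combination -(j * huv)⟩
  obtain ⟨n, hn⟩ := mem_powers_iff_mem_zpowers.2 h
  exact ⟨n, by simpa using (congrArg Units.val hn).symm⟩

theorem zpow_ne_one {ω : Kˣ} {P : ℤ} (hP : IsCoprime P (orderOf ω : ℤ)) (h1 : orderOf ω ≠ 1) :
    ((ω ^ P : Kˣ) : K) ≠ 1 := by
  intro h
  have hd : (orderOf ω : ℤ) ∣ P := orderOf_dvd_iff_zpow_eq_one.2 (Units.ext h)
  exact h1 (by simpa using Int.isUnit_iff_natAbs_eq.1 (hP.isUnit_of_dvd' hd dvd_rfl))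

theorem pow_pow_eq {ω : Kˣ} {P E : ℤ} {m : ℕ} (h : (orderOf ω : ℤ) ∣ E - P * m) :
    ((ω ^ E : Kˣ) : K) = ((ω ^ P : Kˣ) : K) ^ m := by
  rw [← Units.val_pow_eq_pow_val, ← zpow_natCast, ← zpow_mul]
  congr 1
  rw [zpow_eq_zpow_iff_modEq, Int.modEq_iff_dvd, ← neg_sub]
  exact h.neg_right

theorem norm_gen {ω : Kˣ} (hω : ∀ u : Kˣ, u ∈ Subgroup.zpowers ω) {q : ℕ} (hq : 2 ≤ q) {S : ℤ}
    (hS : ((q : ℤ) - 1) * S = (orderOf ω : ℤ)) (t : K) (ht : t ≠ 0) (htq : t ^ q = t) :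
    ∃ n : ℕ, t = ((ω ^ S : Kˣ) : K) ^ n := by
  obtain ⟨j, hj⟩ := hω (Units.mk0 t ht)
  have hu : Units.mk0 t ht ^ (q : ℤ) = Units.mk0 t ht ^ (1 : ℤ) := by
    rw [zpow_natCast, zpow_one]; exact Units.ext htq
  rw [← hj, ← zpow_mul, ← zpow_mul, zpow_eq_zpow_iff_modEq, Int.modEq_iff_dvd, ← hS] at hu
  obtain ⟨c, hc⟩ := hu
  have e : j = S * -c := by
    apply mul_left_cancel₀ (show ((q : ℤ) - 1) ≠ 0 by omega)
    linear_combination -hc
  have h : Units.mk0 t ht ∈ Subgroup.zpowers (ω ^ S) :=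
    ⟨-c, by simp only; rw [← zpow_mul, ← hj, e]⟩
  obtain ⟨n, hn⟩ := mem_powers_iff_mem_zpowers.2 h
  exact ⟨n, by simpa using (congrArg Units.val hn).symm⟩

theorem two_gen_twistedE6 {q : ℕ} (hq : IsPrimePow q) (hK : Fintype.card K = q ^ 2) :
    ∃ a b : ↥(twistedE6 K q), Subgroup.closure ({a, b} : Set ↥(twistedE6 K q)) = ⊤ := by
  obtain ⟨hadd, hfix, hcard, hq2⟩ := frobenius_facts hq two_ne_zero hK
  obtain ⟨ω, hω, hord⟩ := exists_unit_generator hK
  have hN : (orderOf ω : ℤ) = (q : ℤ) ^ 2 - 1 := by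
    rw [hord, Nat.cast_sub (Nat.one_le_pow _ _ (by omega))]; push_cast; rfl
  have hord1 : orderOf ω ≠ 1 := by
    have : 2 ^ 2 ≤ q ^ 2 := Nat.pow_le_pow_left hq2 2
    omega
  have hD : chevE6 ∈ [chevG2, chevB2, chevD4, chevF4, chevE6, chevE7, chevE8] := by simp
  have hg : ∀ (s : ℕ) (a b : ℕ) (x y : ℤ), chevE6.pairing a s = x → chevE6.pairing b s = y →
      famExp chevE6 q [a, b] s = x + q * y := fun s a b x y h1 h2 => by
    simp [famExp, h1, h2]
  have f1 : famRef chevE6 (cfgE6.wPow cfgE6.k) cfgE6.famJ =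
      [wRef chevE6 (cfgE6.wPow 1) 56, wRef chevE6 (cfgE6.wPow 1) 36] := rfl
  have f2 : famRef chevE6 (cfgE6.wl ++ cfgE6.wPow cfgE6.k) cfgE6.famJ =
      [wRef chevE6 (cfgE6.wl ++ cfgE6.wPow 1) 56, wRef chevE6 (cfgE6.wl ++ cfgE6.wPow 1) 36] := rfl
  have f3 : famRef chevE6 (cfgE6.wPow 1 ++ cfgE6.wPow cfgE6.k) cfgE6.famJ =
      [wRef chevE6 (cfgE6.wPow 1 ++ cfgE6.wPow 1) 56, wRef chevE6 (cfgE6.wPow 1 ++ cfgE6.wPow 1) 36] :=
    rfl
  have := twisted_two_gen (goodComm_of_mem hD) (goodWeyl_of_mem hD) cfgE6_chk hadd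
    (fun t _ => hfix t) hcard ω ((ω ^ (-1 : ℤ) : Kˣ) : K) ((ω ^ (q : ℤ) : Kˣ) : K) 1
    (by
      intro p hp
      rw [f1]
      simp only [cfgE6, List.zipIdx_cons, List.zipIdx_nil, List.mem_cons, List.not_mem_nil,
        or_false] at hp
      rcases hp with rfl | rfl
      · rw [hg 56 _ _ (-1) 0 (by decide +kernel) (by decide +kernel)]
        exact pow_pow_eq ⟨0, by push_cast; ring⟩
      · rw [hg 36 _ _ 0 (-1) (by decide +kernel) (by decide +kernel)]
        exact pow_pow_eq ⟨0, by push_cast; ring⟩)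
    (by
      intro p hp
      rw [f2]
      simp only [cfgE6, List.zipIdx_cons, List.zipIdx_nil, List.mem_cons, List.not_mem_nil,
        or_false] at hp
      rcases hp with rfl | rfl
      · rw [hg 56 _ _ 0 1 (by decide +kernel) (by decide +kernel)]
        exact pow_pow_eq ⟨0, by push_cast; ring⟩
      · rw [hg 36 _ _ 1 0 (by decide +kernel) (by decide +kernel)]
        exact pow_pow_eq ⟨-1, by rw [hN]; push_cast; ring⟩)
    (gen_of_coprime hω ⟨-1, 0, by ring⟩) (zpow_ne_one ⟨-1, 0, by ring⟩ hord1)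
    (zpow_ne_one ⟨q, -1, by rw [hN]; ring⟩ hord1)
    (by rw [f1, hg _ _ _ 0 0 (by decide +kernel) (by decide +kernel)]; ring)
    (by
      rw [f3, hg _ _ _ 1 1 (by decide +kernel) (by decide +kernel)]
      exact fun t ht htq => norm_gen hω hq2 (by rw [hN]; ring) t ht htq)
  rwa [cfgE6_words] at this

theorem two_gen_twistedD4 {q : ℕ} (hq : IsPrimePow q) (hK : Fintype.card K = q ^ 3) :
    ∃ a b : ↥(twistedD4 K q), Subgroup.closure ({a, b} : Set ↥(twistedD4 K q)) = ⊤ := by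
  obtain ⟨hadd, hfix, hcard, hq2⟩ := frobenius_facts hq three_ne_zero hK
  obtain ⟨ω, hω, hord⟩ := exists_unit_generator hK
  have hN : (orderOf ω : ℤ) = (q : ℤ) ^ 3 - 1 := by
    rw [hord, Nat.cast_sub (Nat.one_le_pow _ _ (by omega))]; push_cast; rfl
  have hord1 : orderOf ω ≠ 1 := by
    have : 2 ^ 3 ≤ q ^ 3 := Nat.pow_le_pow_left hq2 3
    omega
  have hco : IsCoprime (-1 + (q : ℤ) + q ^ 2) (orderOf ω : ℤ) := by
    rw [hN, show (q : ℤ) ^ 3 - 1 = ((q : ℤ) - 1) * (q ^ 2 + q + 1) by ring]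
    refine IsCoprime.mul_right ⟨1, -(q + 2), by ring⟩ ?_
    obtain ⟨j, hj⟩ := Int.even_mul_succ_self (q : ℤ)
    exact ⟨-(j + 1), j, by linear_combination (-1 : ℤ) * hj⟩
  have hD : chevD4 ∈ [chevG2, chevB2, chevD4, chevF4, chevE6, chevE7, chevE8] := by simp
  have hg : ∀ (s : ℕ) (a b c : ℕ) (x y z : ℤ), chevD4.pairing a s = x → chevD4.pairing b s = y →
      chevD4.pairing c s = z →
      famExp chevD4 q [a, b, c] s = x + q * y + q ^ 2 * z := fun s a b c x y z h1 h2 h3 => by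
    simp [famExp, h1, h2, h3]; ring
  have f : ∀ L : List ℕ, famRef chevD4 L cfgD4.famJ =
      [wRef chevD4 L 18, wRef chevD4 L 13, wRef chevD4 L 12] := fun L => rfl
  have := twisted_two_gen (goodComm_of_mem hD) (goodWeyl_of_mem hD) cfgD4_chk hadd
    (fun t h => absurd h (by decide)) hcard ω ((ω ^ (-1 + (q : ℤ) + q ^ 2) : Kˣ) : K)
    ((ω ^ (-(-1 + (q : ℤ) + q ^ 2)) : Kˣ) : K) 1
    (by
      intro p hp
      rw [f]
      simp only [cfgD4, List.zipIdx_cons, List.zipIdx_nil, List.mem_cons, List.not_mem_nil,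
        or_false] at hp
      rcases hp with rfl | rfl | rfl
      · rw [hg 18 _ _ _ (-1) 1 1 (by decide +kernel) (by decide +kernel) (by decide +kernel)]
        exact pow_pow_eq ⟨0, by push_cast; ring⟩
      · rw [hg 13 _ _ _ 1 (-1) 1 (by decide +kernel) (by decide +kernel) (by decide +kernel)]
        exact pow_pow_eq ⟨-1, by rw [hN]; push_cast; ring⟩
      · rw [hg 12 _ _ _ 1 1 (-1) (by decide +kernel) (by decide +kernel) (by decide +kernel)]
        exact pow_pow_eq ⟨-((q : ℤ) + 1), by rw [hN]; push_cast; ring⟩)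
    (by
      intro p hp
      rw [f]
      simp only [cfgD4, List.zipIdx_cons, List.zipIdx_nil, List.mem_cons, List.not_mem_nil,
        or_false] at hp
      rcases hp with rfl | rfl | rfl
      · rw [hg 18 _ _ _ 1 (-1) (-1) (by decide +kernel) (by decide +kernel) (by decide +kernel)]
        exact pow_pow_eq ⟨0, by push_cast; ring⟩
      · rw [hg 13 _ _ _ (-1) 1 (-1) (by decide +kernel) (by decide +kernel) (by decide +kernel)]
        exact pow_pow_eq ⟨1, by rw [hN]; push_cast; ring⟩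
      · rw [hg 12 _ _ _ (-1) (-1) 1 (by decide +kernel) (by decide +kernel) (by decide +kernel)]
        exact pow_pow_eq ⟨(q : ℤ) + 1, by rw [hN]; push_cast; ring⟩)
    (gen_of_coprime hω hco) (zpow_ne_one hco hord1) (zpow_ne_one hco.neg_left hord1)
    (by rw [f, hg _ _ _ _ 0 0 0 (by decide +kernel) (by decide +kernel) (by decide +kernel)]; ring)
    (by
      rw [f, hg _ _ _ _ 1 1 1 (by decide +kernel) (by decide +kernel) (by decide +kernel)]
      exact fun t ht htq => norm_gen hω hq2 (by rw [hN]; ring) t ht htq)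
  rwa [cfgD4_words] at this

end Field

end CfsgLib.ChevGen
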