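import Cfsg.Agent.ChevGen.Twisted
/-!
Two generators of a twisted group given by long root generators over a subfield and families of
orthogonal root elements with twisted parameters.
-/

set_option autoImplicit false

namespace CfsgLib.ChevGen

open Cfsg.Lie CfsgLib.Chevalley
open scoped MatrixGroups

/-- The data of a two-generator certificate for a twisted group. -/
structure TwCfg where
  /-- roots with parameters in the subfield -/
  lgens : List ℕ
  /-- families -/
  sgens : List (List ℕ)
  /-- blocks of nodes whose product is the element `w` -/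
  blocks : List (List ℕ)
  /-- the family of the torus element -/
  famJ : List ℕ
  /-- power of `w` conjugating the torus element -/
  k : ℕ
  /-- the family of the second generator -/
  famA : List ℕ
  /-- the root of the first generator -/
  rootP : ℕ
  /-- certificate for the roots over the subfield -/
  cert : List (ℕ × Option ℕ)
  /-- for each family, a word of `w` (`none`) and single nodes reaching it from `famA` -/
  moves : List (List (Option ℕ))

variable (D : ChevalleyDatum) (C : TwCfg)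

/-- The word of `w`. -/
def TwCfg.wl : List ℕ := C.blocks.flatten

/-- The word of `w ^ n`. -/
def TwCfg.wPow : ℕ → List ℕ
  | 0 => []
  | n + 1 => C.wl ++ TwCfg.wPow n

/-- The word of one move. -/
def TwCfg.move : Option ℕ → List ℕ
  | none => C.wl
  | some i => [i]

/-- One step of the certificate over the subfield. -/
def TwCfg.stepQ (known : List ℕ) : ℕ × Option ℕ → Option ℕ
  | (r, none) => bif known.contains r then some (wRef D C.wl r) else none
  | (r, some s) => stepRoot D 1 known (r, some s)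

/-- The roots known after the certificate. -/
def TwCfg.deriveQ : List (ℕ × Option ℕ) → List ℕ → List ℕ
  | [], known => known
  | st :: rest, known =>
    match C.stepQ D known st with
    | some j => TwCfg.deriveQ rest (j :: known)
    | none => TwCfg.deriveQ rest known

/-- The check of one target. -/
def TwCfg.moveOK (T : List ℕ) (mv : List (Option ℕ)) : Bool :=
  let L := mv.flatMap C.move
  okWord D L && sameSgn D L C.famA && mv.all (fun o => match o with
      | none => true
      | some i => C.lgens.contains (D.simple i) && C.lgens.contains (opp D (D.simple i))) &&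
    (famRef D L C.famA == T || (T.length == 2 && (famRef D L C.famA).reverse == T))

/-- The check of one block. -/
def TwCfg.blockOK (b : List ℕ) : Bool :=
  okWord D b &&
    ((b.length == 1 && C.lgens.contains (D.simple (b.headD 0)) &&
        C.lgens.contains (opp D (D.simple (b.headD 0)))) ||
      (orthFam D (b.map D.simple) && decide (b.map D.simple).Nodup &&
        C.sgens.contains (b.map D.simple) && C.sgens.contains ((b.map D.simple).map (opp D))))

/-- All checks of the tables. -/
def TwCfg.chk : Bool :=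
  C.blocks.all (C.blockOK D) &&
  C.lgens.all (fun r => decide (r < D.nroots)) && C.sgens.all (fun T => commutesAll D T) &&
  orthFam D C.famJ && decide C.famJ.Nodup && C.sgens.contains C.famJ &&
  C.sgens.contains (C.famJ.map (opp D)) && C.sgens.contains C.famA && commutesAll D C.famA &&
  C.lgens.contains C.rootP &&
  C.lgens.all (fun r => (C.deriveQ D C.cert [C.rootP]).contains r) &&
  C.sgens.length == C.moves.length && (C.sgens.zip C.moves).all (fun p => C.moveOK D p.1 p.2)

variable {D} {K : Type*} [Field K]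

/-- The generating words. -/
def TwCfg.words (q : ℕ) : Set (List (ℕ × K)) :=
  {w | ∃ t : K, t ^ q = t ∧ ∃ r ∈ C.lgens, w = [(r, t)]} ∪
    {w | ∃ t : K, ∃ T ∈ C.sgens, w = famWord q T t}

variable {C} {q : ℕ}

theorem mem_genSubgroup_long (hW : GoodWeyl D) {r : Root D} (hr : (r : ℕ) ∈ C.lgens) {t : K}
    (ht : t ^ q = t) : X hW.good r t ∈ D.genSubgroup K (C.words q) :=
  Subgroup.subset_closure ⟨_, Or.inl ⟨t, ht, r, hr, rfl⟩, by
    rw [← wordGL_single hW r.isLt, coe_wordGL]⟩

theorem mem_genSubgroup_fam (hW : GoodWeyl D) {T : List ℕ} (hT : T ∈ C.sgens) (t : K) :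
    famEl hW q T t ∈ D.genSubgroup K (C.words q) :=
  Subgroup.subset_closure ⟨_, Or.inr ⟨t, T, hT, rfl⟩, coe_wordGL _ _⟩

theorem genSubgroup_words_le (hW : GoodWeyl D) {H : Subgroup (GL D.Idx K)}
    (hl : ∀ r : Root D, (r : ℕ) ∈ C.lgens → ∀ t : K, t ^ q = t → X hW.good r t ∈ H)
    (hlt : ∀ r ∈ C.lgens, r < D.nroots)
    (hs : ∀ T ∈ C.sgens, ∀ t : K, famEl hW q T t ∈ H) : D.genSubgroup K (C.words q) ≤ H := by
  rw [ChevalleyDatum.genSubgroup, Subgroup.closure_le]
  rintro g ⟨w, hw, hg⟩
  have e : g = wordGL hW.good w := Units.ext (by rw [hg, coe_wordGL])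
  rcases hw with ⟨t, ht, r, hr, rfl⟩ | ⟨t, T, hT, rfl⟩
  · rw [e, wordGL_single hW (hlt r hr)]
    exact hl ⟨r, hlt r hr⟩ hr t ht
  · rw [e]
    exact hs T hT t

theorem wl_okWord (h : C.blocks.all (C.blockOK D) = true) : okWord D C.wl = true := by
  simp only [List.all_eq_true, TwCfg.blockOK, Bool.and_eq_true] at h
  simp only [okWord, TwCfg.wl, List.all_eq_true, List.mem_flatten]
  rintro i ⟨b, hb, hib⟩
  exact List.all_eq_true.1 (h b hb).1 i hib

theorem wPow_okWord (h : okWord D C.wl = true) (n : ℕ) : okWord D (C.wPow n) = true := by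
  induction n with
  | zero => rfl
  | succ n ih =>
    simp only [okWord] at h ih
    simp only [TwCfg.wPow, okWord, List.all_append, h, ih, Bool.and_self]

theorem wEl_append (hW : GoodWeyl D) (L L' : List ℕ) :
    (wEl hW (L ++ L') : GL D.Idx K) = wEl hW L * wEl hW L' := by
  simp [wEl]

theorem wEl_wPow (hW : GoodWeyl D) (n : ℕ) :
    (wEl hW (C.wPow n) : GL D.Idx K) = wEl hW C.wl ^ n := by
  induction n with
  | zero => rfl
  | succ n ih => rw [TwCfg.wPow, wEl_append, ih, pow_succ']

theorem nOf_simple (hW : GoodWeyl D) {i : ℕ} (hi : i < D.rank) :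
    (nOf hW (D.simple i) (1 : Kˣ) : GL D.Idx K) = nN hW i := by
  rw [nOf, dif_pos (hW.good.simple_lt hi), nN, dif_pos hi, ← nElt_one]
  rfl

theorem wl_mem_gen (hC : GoodComm D) (hW : GoodWeyl D) (hneg : ∀ i : ℕ, (-1 : K) ^ q ^ i = -1)
    (hb : C.blocks.all (C.blockOK D) = true) :
    (wEl hW C.wl : GL D.Idx K) ∈ D.genSubgroup K (C.words q) := by
  simp only [List.all_eq_true, TwCfg.blockOK, Bool.and_eq_true, Bool.or_eq_true, beq_iff_eq,
    List.contains_iff_mem, decide_eq_true_eq] at hb
  have key : ∀ b ∈ C.blocks, (wEl hW b : GL D.Idx K) ∈ D.genSubgroup K (C.words q) := by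
    intro b hbm
    obtain ⟨hok, ⟨⟨hlen, h1⟩, h2⟩ | ⟨⟨⟨ho, hnd⟩, h1⟩, h2⟩⟩ := hb b hbm
    · obtain ⟨i, rfl⟩ := List.length_eq_one_iff.1 hlen
      simp only [okWord, List.all_cons, List.all_nil, Bool.and_true, decide_eq_true_eq] at hok
      simp only [List.headD_cons] at h1 h2
      simp only [wEl, List.map_cons, List.map_nil, List.prod_cons, List.prod_nil, mul_one, nN,
        dif_pos hok, nR]
      refine mul_mem (mul_mem (mem_genSubgroup_long hW h1 (one_pow q))
        (mem_genSubgroup_long hW ?_ (by simpa using hneg 1))) (mem_genSubgroup_long hW h1 (one_pow q))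
      rw [rev_eq_opp hW]
      exact h2
    · have e : (wEl hW b : GL D.Idx K) = famN hW q (b.map D.simple) 1 := by
        rw [famN_eq hC hW hneg ho hnd, List.zipIdx_map, List.map_map, wEl]
        conv_lhs => rw [← List.zipIdx_map_fst 0 b, List.map_map]
        refine congrArg List.prod (List.map_congr_left fun p hp => ?_)
        simp only [Function.comp_apply, Prod.map_fst, Prod.map_snd, id, one_pow]
        simp only [okWord, List.all_eq_true, decide_eq_true_eq] at hok
        exact (nOf_simple hW (hok _ (List.fst_mem_of_mem_zipIdx hp))).symm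
      rw [e, famN]
      exact mul_mem (mul_mem (mem_genSubgroup_fam hW h1 _) (mem_genSubgroup_fam hW h2 _))
        (mem_genSubgroup_fam hW h1 _)
  rw [TwCfg.wl]
  generalize C.blocks = B at key
  induction B with
  | nil => simp [wEl]
  | cons b B ih =>
    obtain ⟨h1, h2⟩ := List.forall_mem_cons.1 key
    rw [List.flatten_cons, wEl_append]
    exact mul_mem h1 (ih h2)

/-- `n_r(t) n_r(-1) = h_r(t)` for orthogonal families. -/
theorem famTor_mem_gen (hC : GoodComm D) (hW : GoodWeyl D) (hneg : ∀ i : ℕ, (-1 : K) ^ q ^ i = -1)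
    {fam : List ℕ} (ho : orthFam D fam = true) (hnd : fam.Nodup) (h1 : fam ∈ C.sgens)
    (h2 : fam.map (opp D) ∈ C.sgens) (ω : Kˣ) :
    famTor D q fam ω ∈ D.genSubgroup K (C.words q) := by
  have hm : ∀ t : Kˣ, famN hW q fam t ∈ D.genSubgroup K (C.words q) := fun t =>
    mul_mem (mul_mem (mem_genSubgroup_fam hW h1 _) (mem_genSubgroup_fam hW h2 _))
      (mem_genSubgroup_fam hW h1 _)
  have e : famN hW q fam ω * famN hW q fam (-1) = famTor D q fam ω := by
    rw [famN_eq hC hW hneg ho hnd, famN_eq hC hW hneg ho hnd]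
    simp only [orthFam, Bool.and_eq_true, List.all_eq_true, Bool.or_eq_true, beq_iff_eq,
      decide_eq_true_eq] at ho
    obtain ⟨⟨h1', h2'⟩, h3⟩ := ho
    rw [prod_interleave, famTor]
    · refine congrArg List.prod (List.map_congr_left fun p hp => ?_)
      have hlt := (h3 _ (List.fst_mem_of_mem_zipIdx hp)).1
      have e1 : (-1 : Kˣ) ^ q ^ p.2 = -1 :=
        Units.ext (by rw [Units.val_pow_eq_pow_val]; simpa using hneg p.2)
      rw [nOf, nOf, dif_pos hlt, dif_pos hlt, dif_pos hlt, e1, hElt_eq hW]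
    · have hA := pairwise_fam (K := K) hC hW h1'
      have hB := pairwise_fam (K := K) hC hW h2'
      rw [List.zipIdx_map] at hB
      have hpw : fam.zipIdx.Pairwise fun i j => i.1 ≠ j.1 :=
        List.pairwise_map.1 (by rw [List.zipIdx_map_fst]; exact hnd :
          (fam.zipIdx.map Prod.fst).Pairwise (· ≠ ·))
      have hA' : ∀ u v : ℕ × ℕ → K, fam.zipIdx.Pairwise fun i j =>
          Commute (wordGL hW.good [(opp D i.1, u i)]) (wordGL hW.good [(opp D j.1, v j)]) :=
        fun u v => List.pairwise_map.1 (hB (fun p => u (fam.getD p.2 0, p.2))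
          (fun p => v (fam.getD p.2 0, p.2))) |>.imp_of_mem fun {i j} hi hj h => by
            have gi : fam[i.2]?.getD 0 = i.1 := by
              rw [List.mem_zipIdx_iff_getElem?.1 hi]; rfl
            have gj : fam[j.2]?.getD 0 = j.1 := by
              rw [List.mem_zipIdx_iff_getElem?.1 hj]; rfl
            simpa [gi, gj] using h
      refine (((hA (fun _ => ((-1 : Kˣ) : K)) (fun p => ((ω ^ q ^ p.2 : Kˣ) : K))).and
        (hA' (fun _ => -(((-1 : Kˣ)⁻¹ : Kˣ) : K)) (fun p => -(((ω ^ q ^ p.2)⁻¹ : Kˣ) : K)))).and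
          hpw).imp_of_mem fun {i j} hi hj ⟨⟨haa, hbb⟩, hne⟩ => ?_
      have hlti := (h3 _ (List.fst_mem_of_mem_zipIdx hi)).1
      have hltj := (h3 _ (List.fst_mem_of_mem_zipIdx hj)).1
      have hi' : opp D i.1 < D.nroots := by simp only [opp]; omega
      have hj' : opp D j.1 < D.nroots := by simp only [opp]; omega
      obtain ⟨hab, hba⟩ := ((h3 _ (List.fst_mem_of_mem_zipIdx hi)).2 _
        (List.fst_mem_of_mem_zipIdx hj)).resolve_left hne
      have e1 : (-1 : Kˣ) ^ q ^ i.2 = -1 :=
        Units.ext (by rw [Units.val_pow_eq_pow_val]; simpa using hneg i.2)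
      have hab' : ∀ u v : K, Commute (X hW.good ⟨i.1, hlti⟩ u) (X hW.good ⟨opp D j.1, hj'⟩ v) :=
        fun u v => commute_of_commutes hC hW hab u v _ _
      have hba' : ∀ u v : K, Commute (X hW.good ⟨opp D i.1, hi'⟩ u) (X hW.good ⟨j.1, hltj⟩ v) :=
        fun u v => commute_of_commutes hC hW hba u v _ _
      rw [wordGL_single hW hlti, wordGL_single hW hltj] at haa
      rw [wordGL_single hW hi', wordGL_single hW hj'] at hbb
      rw [nOf, nOf, dif_pos hlti, dif_pos hltj, e1, nElt, nElt,
        show (⟨i.1, hlti⟩ : Root D).rev = ⟨opp D i.1, hi'⟩ from Fin.ext (rev_eq_opp hW _),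
        show (⟨j.1, hltj⟩ : Root D).rev = ⟨opp D j.1, hj'⟩ from Fin.ext (rev_eq_opp hW _)]
      exact ((haa.mul_right (hab' _ _)).mul_right haa).mul_left
        ((hba' _ _).mul_right hbb |>.mul_right (hba' _ _)) |>.mul_left
        ((haa.mul_right (hab' _ _)).mul_right haa)
  rw [← e]
  exact mul_mem (hm _) (hm _)

theorem famEl_conj_famTor (hW : GoodWeyl D) {J A : List ℕ} (hJ : ∀ r ∈ J, r < D.nroots)
    (hA : ∀ r ∈ A, r < D.nroots) (ω : Kˣ) (κ : K)
    (hexp : ∀ p ∈ A.zipIdx, ((ω ^ famExp D q J p.1 : Kˣ) : K) = κ ^ q ^ p.2) (t : K) :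
    famTor D q J ω * famEl hW q A t * (famTor D q J ω)⁻¹ = famEl hW q A (κ * t) := by
  simp only [famEl, famWord]
  rw [wordGL_eq_prod hW, wordGL_eq_prod hW ((_ : List (ℕ × ℕ)).map _)]
  show MulAut.conj (famTor D q J ω) _ = _
  simp only [map_list_prod, List.map_map]
  refine congrArg List.prod (List.map_congr_left fun p hp => ?_)
  simp only [Function.comp_apply, MulAut.conj_apply]
  rw [wordGL_single hW (hA _ (List.fst_mem_of_mem_zipIdx hp)),
    wordGL_single hW (hA _ (List.fst_mem_of_mem_zipIdx hp)), famTor_conj_X hW hJ, hexp p hp, mul_pow]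

theorem famRef_lt (hW : GoodWeyl D) {L fam : List ℕ} (hL : okWord D L = true)
    (h : ∀ r ∈ fam, r < D.nroots) : ∀ r ∈ famRef D L fam, r < D.nroots := by
  intro r hr
  obtain ⟨r₀, hr₀, rfl⟩ := List.mem_map.1 hr
  obtain ⟨s, hs, -⟩ := wEl_conj_wordGL (K := ℚ) hW L hL ⟨r₀, h r₀ hr₀⟩ 0
  exact hs ▸ s.isLt

theorem deriveQ_has (hC : GoodComm D) (hW : GoodWeyl D) (hwl : okWord D C.wl = true)
    {H : Subgroup (GL D.Idx K)} (hw : wEl hW C.wl ∈ H)
    (hneg : ∀ t : K, t ^ q = t → (-t) ^ q = -t) (L : List (ℕ × Option ℕ)) :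
    ∀ known : List ℕ, (∀ r ∈ known, r < D.nroots) →
      (∀ r : Root D, (r : ℕ) ∈ known → ∀ t : K, t ^ q = t → X hW.good r t ∈ H) →
      ∀ r : Root D, (r : ℕ) ∈ C.deriveQ D L known → ∀ t : K, t ^ q = t → X hW.good r t ∈ H := by
  induction L with
  | nil => exact fun known _ h => h
  | cons st L ih =>
    intro known hlt h
    simp only [TwCfg.deriveQ]
    split
    · next j hj =>
      suffices hj' : ∃ hk : j < D.nroots, ∀ t : K, t ^ q = t → X hW.good ⟨j, hk⟩ t ∈ H by
        obtain ⟨hk, hj'⟩ := hj'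
        refine ih _ (List.forall_mem_cons.2 ⟨hk, hlt⟩) fun r hr => ?_
        rcases List.mem_cons.1 hr with hr | hr
        · subst hr; exact hj'
        · exact h r hr
      obtain ⟨r, _ | s⟩ := st
      · simp only [TwCfg.stepQ, Bool.cond_eq_ite, Option.ite_none_right_eq_some,
          List.contains_iff_mem, Option.some.injEq] at hj
        obtain ⟨hr, rfl⟩ := hj
        obtain ⟨v, hv, -, -⟩ := wEl_conj_wordGL (K := K) hW C.wl hwl ⟨r, hlt r hr⟩ 0
        refine ⟨hv ▸ v.isLt, fun t ht => ?_⟩
        have hsq : ((wSgn D C.wl r : K)) * wSgn D C.wl r = 1 := by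
          rw [← Int.cast_mul, show r = ((⟨r, hlt r hr⟩ : Root D) : ℕ) from rfl,
            wSgn_sq hW _ hwl, Int.cast_one]
        have ht' : ((wSgn D C.wl r : K) * t) ^ q = (wSgn D C.wl r : K) * t := by
          rcases mul_self_eq_one_iff.1 hsq with e | e <;> rw [e]
          · rw [one_mul, ht]
          · rw [neg_one_mul, hneg t ht]
        obtain ⟨v', hv', -, hX⟩ := wEl_conj_wordGL (K := K) hW C.wl hwl ⟨r, hlt r hr⟩
          ((wSgn D C.wl r : K) * t)
        have := mul_mem (mul_mem hw (h ⟨r, hlt r hr⟩ hr _ ht')) (inv_mem hw)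
        rw [hX, ← mul_assoc, hsq, one_mul] at this
        convert this using 2
        exact Fin.ext hv'.symm
      · simp only [TwCfg.stepQ, stepRoot] at hj
        revert hj
        split
        case h_2 => simp
        case h_1 k C' a b heq =>
          intro hj
          simp only [Bool.cond_eq_ite, Option.ite_none_right_eq_some, Option.some.injEq,
            Bool.and_eq_true, List.contains_iff_mem, bne_iff_ne, beq_iff_eq, Bool.or_eq_true,
            decide_eq_true_eq, or_self] at hj
          obtain ⟨⟨⟨⟨⟨⟨⟨⟨hr, hs⟩, hsr⟩, hsn⟩, hC'⟩, rfl⟩, rfl⟩, hk⟩, rfl⟩ := hj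
          refine ⟨hk, fun v hv => ?_⟩
          have hCC : (C' : K) * C' = 1 := by
            rcases Int.natAbs_eq C' with e | e <;> rw [e, hC'] <;> simp
          set R : Root D := ⟨r, hlt r hr⟩
          set S : Root D := ⟨s, hlt s hs⟩
          have hne2 : S ≠ R.rev := fun e => hsn (by
            have := congrArg Fin.val e
            rwa [rev_eq_opp hW] at this)
          have h1 : (-1 : K) ^ q = -1 := hneg 1 (one_pow q)
          have hv' : ((C' : K) * v) ^ q = (C' : K) * v := by
            rcases mul_self_eq_one_iff.1 hCC with e | e <;> rw [e]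
            · rw [one_mul, hv]
            · rw [neg_one_mul, hneg v hv]
          have key := X_comm (R := K) hC R S (fun e => hsr (congrArg Fin.val e)) hne2 (-1)
            ((C' : K) * v)
          have hrhs : commRhs hC.good r s (-1) ((C' : K) * v) = X hW.good ⟨k, hk⟩ v := by
            rw [commRhs, heq]
            simp only [List.map_cons, List.map_nil, wordGL, List.prod_cons, List.prod_nil, mul_one,
              neg_neg, pow_one]
            rw [dif_pos hk, ← mul_assoc, hCC, one_mul]
          have hmem : commRhs hC.good r s (-1) ((C' : K) * v) ∈ H := by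
            rw [eq_inv_mul_of_mul_eq key.symm]
            exact mul_mem (inv_mem (mul_mem (h R hr _ h1) (h S hs _ hv')))
              (mul_mem (h S hs _ hv') (h R hr _ h1))
          rwa [hrhs] at hmem
    · exact ih _ hlt h

theorem moves_has (hW : GoodWeyl D)
    (hneg : ∀ i : ℕ, (-1 : K) ^ q ^ i = -1) (hq2 : ∀ t : K, C.famA.length = 2 → t ^ q ^ 2 = t)
    (hcomm : ∀ (a b : ℕ) (u v : K), [a, b] ∈ C.sgens →
      Commute (wordGL hW.good [(a, u)]) (wordGL hW.good [(b, v)]))
    {H : Subgroup (GL D.Idx K)} (hw : wEl hW C.wl ∈ H)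
    (hl : ∀ r : Root D, (r : ℕ) ∈ C.lgens → ∀ t : K, t ^ q = t → X hW.good r t ∈ H)
    (hA : ∀ t : K, famEl hW q C.famA t ∈ H) {T : List ℕ} (hTm : T ∈ C.sgens)
    {mv : List (Option ℕ)} (h : C.moveOK D T mv = true) (t : K) : famEl hW q T t ∈ H := by
  simp only [TwCfg.moveOK, Bool.and_eq_true, List.all_eq_true, Bool.or_eq_true, beq_iff_eq] at h
  obtain ⟨⟨⟨hok, hsgn⟩, hmv⟩, hT⟩ := h
  set L := mv.flatMap C.move
  have hokL := hok
  simp only [okWord, List.all_eq_true, decide_eq_true_eq] at hokL
  have hg : (wEl hW L : GL D.Idx K) ∈ H := by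
    clear hT hsgn hok
    simp only [L]
    clear_value L
    induction mv with
    | nil => simp [wEl]
    | cons o mv ih =>
      obtain ⟨h1, h2⟩ := List.forall_mem_cons.1 hmv
      rw [List.flatMap_cons, wEl_append]
      refine mul_mem ?_ (ih h2)
      cases o with
      | none => exact hw
      | some i =>
        simp only [Bool.and_eq_true, List.contains_iff_mem] at h1
        simp only [TwCfg.move, wEl, List.map_cons, List.map_nil, List.prod_cons, List.prod_nil,
          mul_one, nN]
        split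
        · next hi =>
          refine mul_mem (mul_mem (hl _ h1.1 1 (one_pow q)) ?_) (hl _ h1.1 1 (one_pow q))
          exact hl _ (by rw [rev_eq_opp hW]; exact h1.2) (-1) (by simpa using hneg 1)
        · exact one_mem _
  obtain ⟨ε, hε, hconj⟩ := famEl_conj_wEl hW hneg hok hsgn
  have key : ∀ s : K, famEl hW q (famRef D L C.famA) s ∈ H := fun s => by
    have := mul_mem (mul_mem hg (hA (ε * s))) (inv_mem hg)
    rwa [hconj, ← mul_assoc, hε, one_mul] at this
  rcases hT with e | ⟨hlen, e⟩
  · exact e ▸ key t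
  · obtain ⟨a, b, rfl⟩ := List.length_eq_two.1 hlen
    have e' : famRef D L C.famA = [b, a] := by
      have := congrArg List.reverse e
      simpa using this
    have hlenA : C.famA.length = 2 := by
      have := congrArg List.length e'
      simpa [famRef] using this
    have hk := key (t ^ q)
    rw [e'] at hk
    simp only [famEl, famWord, List.zipIdx_cons, List.zipIdx_nil, List.map_cons, List.map_nil,
      Nat.zero_add, pow_zero, pow_one] at hk ⊢
    rw [← pow_mul, ← pow_two q, hq2 t hlenA] at hk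
    rw [wordGL_eq_prod hW] at hk ⊢
    simp only [List.map_cons, List.map_nil, List.prod_cons, List.prod_nil, mul_one] at hk ⊢
    rwa [(hcomm a b t (t ^ q) hTm).eq]

variable [Finite K]

/-- The two generators. -/
theorem twisted_two_gen (hC : GoodComm D) (hW : GoodWeyl D) (hchk : C.chk D = true)
    (hadd : ∀ (i : ℕ) (s t : K), (s + t) ^ q ^ i = s ^ q ^ i + t ^ q ^ i)
    (hq2 : ∀ t : K, C.famA.length = 2 → t ^ q ^ 2 = t) (hcard : ((Nat.card K : ℕ) : K) = 0)
    (ω : Kˣ) (κ κ' : K) (m : ℕ)
    (hκ : ∀ p ∈ C.famA.zipIdx,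
      ((ω ^ famExp D q (famRef D (C.wPow C.k) C.famJ) p.1 : Kˣ) : K) = κ ^ q ^ p.2)
    (hκ' : ∀ p ∈ C.famA.zipIdx,
      ((ω ^ famExp D q (famRef D (C.wl ++ C.wPow C.k) C.famJ) p.1 : Kˣ) : K) = κ' ^ q ^ p.2)
    (hgen : ∀ t : K, t ≠ 0 → ∃ n : ℕ, t = κ ^ n) (hκ1 : κ ≠ 1) (hκ'1 : κ' ≠ 1)
    (hp0 : famExp D q (famRef D (C.wPow C.k) C.famJ) C.rootP = 0)
    (hgenQ : ∀ t : K, t ≠ 0 → t ^ q = t → ∃ n : ℕ, t =
      (((ω ^ famExp D q (famRef D (C.wPow m ++ C.wPow C.k) C.famJ) C.rootP : Kˣ) : K)) ^ n) :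
    ∃ a b : ↥(D.genSubgroup K (C.words q)),
      Subgroup.closure ({a, b} : Set ↥(D.genSubgroup K (C.words q))) = ⊤ := by
  have hq0 : q ≠ 0 := by
    rintro rfl
    have := hadd 1 (1 : K) 1
    simp at this
  have hneg : ∀ i : ℕ, (-1 : K) ^ q ^ i = -1 := fun i => by
    have := hadd i 1 (-1)
    rw [add_neg_cancel, one_pow, zero_pow (pow_ne_zero i hq0)] at this
    exact (neg_eq_of_add_eq_zero_right this.symm).symm
  have hneg' : ∀ t : K, t ^ q = t → (-t) ^ q = -t := fun t ht => by
    rw [← neg_one_mul, mul_pow, ht]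
    congr 1
    simpa using hneg 1
  simp only [TwCfg.chk, Bool.and_eq_true, beq_iff_eq, decide_eq_true_eq] at hchk
  obtain ⟨⟨⟨⟨⟨⟨⟨⟨⟨⟨⟨⟨hb, hll⟩, hsc⟩, hJo⟩, hJnd⟩, hJ1⟩, hJ2⟩, hA1⟩, hA⟩, hP⟩, hcert⟩, hlen⟩, hmoves⟩ :=
    hchk
  simp only [List.all_eq_true, decide_eq_true_eq, List.contains_iff_mem] at hll hsc hJ1 hJ2 hA1 hP hcert
  have hwl := wl_okWord hb
  have hJlt : ∀ r ∈ C.famJ, r < D.nroots := by
    simp only [orthFam, Bool.and_eq_true] at hJo
    exact lt_of_commutesAll hJo.1.1
  have hAlt := lt_of_commutesAll hA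
  have hwG : (wEl hW C.wl : GL D.Idx K) ∈ D.genSubgroup K (C.words q) := wl_mem_gen hC hW hneg hb
  set P : Root D := ⟨C.rootP, hll _ hP⟩
  set Jk := famRef D (C.wPow C.k) C.famJ
  have hJk : ∀ r ∈ Jk, r < D.nroots := famRef_lt hW (wPow_okWord hwl _) hJlt
  set h : GL D.Idx K := famTor D q Jk ω
  have hhG : h ∈ D.genSubgroup K (C.words q) := by
    simp only [h, Jk]
    rw [← famTor_conj_wEl hW (wPow_okWord hwl _) hJlt, wEl_wPow]
    exact mul_mem (mul_mem (pow_mem hwG _) (famTor_mem_gen hC hW hneg hJo hJnd hJ1 hJ2 ω))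
      (inv_mem (pow_mem hwG _))
  let a : ↥(D.genSubgroup K (C.words q)) :=
    ⟨h * X hW.good P 1, mul_mem hhG (mem_genSubgroup_long hW hP (one_pow q))⟩
  let b : ↥(D.genSubgroup K (C.words q)) :=
    ⟨famEl hW q C.famA 1 * wEl hW C.wl, mul_mem (mem_genSubgroup_fam hW hA1 1) hwG⟩
  refine ⟨a, b, eq_top_iff.2 fun g _ => ?_⟩
  set S := Subgroup.closure ({a, b} : Set ↥(D.genSubgroup K (C.words q)))
  suffices hle : D.genSubgroup K (C.words q) ≤ S.map (D.genSubgroup K (C.words q)).subtype by
    obtain ⟨g', hg', e⟩ := Subgroup.mem_map.1 (hle g.2)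
    rwa [← Subtype.ext e]
  set H := S.map (D.genSubgroup K (C.words q)).subtype
  have ha : h * X hW.good P 1 ∈ H := ⟨a, Subgroup.subset_closure (by simp), rfl⟩
  have hy : famEl hW q C.famA 1 * wEl hW C.wl ∈ H := ⟨b, Subgroup.subset_closure (by simp), rfl⟩
  -- split the first generator
  have hcom : Commute h (X hW.good P (1 : K)) := by
    have := famTor_conj_X hW hJk q ω P (1 : K)
    rw [show famExp D q Jk P = 0 from hp0, zpow_zero, Units.val_one, one_mul,
      mul_inv_eq_iff_eq_mul] at this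
    exact this
  have hpow : h ^ (Nat.card K - 1) = 1 := by
    refine famTor_pow hW q Jk ω ?_
    have := Fintype.ofFinite K
    classical
    rw [Nat.card_eq_fintype_card, ← Fintype.card_units, pow_card_eq_one]
  have hu : X hW.good P (1 : K) ∈ H := by
    have := inv_mem (pow_mem ha (Nat.card K - 1))
    rwa [hcom.mul_pow, hpow, one_mul, X_pow hW, mul_one, X_inv,
      show -((Nat.card K - 1 : ℕ) : K) = 1 by rw [Nat.cast_sub Nat.card_pos, hcard]; simp] at this
  have hh : h ∈ H := by simpa using mul_mem ha (inv_mem hu)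
  obtain ⟨hw, hAall⟩ := family_step (H := H) (fun t : K => famEl hW q C.famA t)
    (fun s t => famEl_add hC hW hadd hA s t) (h := h)
    (h' := famTor D q (famRef D (C.wl ++ C.wPow C.k) C.famJ) ω) (w := wEl hW C.wl) (by
      simp only [h, Jk]
      rw [← famTor_conj_wEl hW (wPow_okWord hwl _) hJlt,
        ← famTor_conj_wEl hW (L := C.wl ++ C.wPow C.k) ?_ hJlt, wEl_append]
      · group
      · simp only [okWord, List.all_append, Bool.and_eq_true]
        exact ⟨hwl, wPow_okWord hwl _⟩)
    (diag_comm hW (famTor_mem_diagonal hW _ _ _) (famTor_mem_diagonal hW _ _ _))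
    (κ := κ) (κ' := κ') (famEl_conj_famTor hW hJk hAlt ω κ hκ)
    (famEl_conj_famTor hW (famRef_lt hW (by
      simp only [okWord, List.all_append, Bool.and_eq_true]
      exact ⟨hwl, wPow_okWord hwl _⟩) hJlt) hAlt ω κ' hκ') hgen hκ1 hκ'1 hh hy
  -- the root over the subfield
  have hPall : ∀ t : K, t ^ q = t → X hW.good P t ∈ H := by
    set Jm := famRef D (C.wPow m ++ C.wPow C.k) C.famJ
    set e : Kˣ := ω ^ famExp D q Jm P
    have hok' : okWord D (C.wPow m ++ C.wPow C.k) = true := by
      simp only [okWord, List.all_append, Bool.and_eq_true]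
      exact ⟨wPow_okWord hwl _, wPow_okWord hwl _⟩
    have hg : famTor D q Jm ω ∈ H := by
      simp only [Jm]
      rw [← famTor_conj_wEl hW hok' hJlt, wEl_append, wEl_wPow, wEl_wPow,
        show ∀ x y z : GL D.Idx K, x * y * z * (x * y)⁻¹ = x * (y * z * y⁻¹) * x⁻¹ from
          fun x y z => by group, ← wEl_wPow hW C.k, famTor_conj_wEl hW (wPow_okWord hwl _) hJlt]
      exact mul_mem (mul_mem (pow_mem hw m) hh) (inv_mem (pow_mem hw m))
    have hpow' : ∀ n : ℕ, X hW.good P ((e : K) ^ n) ∈ H := by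
      intro n
      induction n with
      | zero => simpa using hu
      | succ n ih =>
        rw [pow_succ', ← famTor_conj_X hW (famRef_lt hW hok' hJlt) q ω P]
        exact mul_mem (mul_mem hg ih) (inv_mem hg)
    intro t ht
    rcases eq_or_ne t 0 with rfl | ht0
    · rw [X_zero]; exact one_mem _
    · obtain ⟨n, rfl⟩ := hgenQ t ht0 ht
      exact hpow' n
  have hlong : ∀ r : Root D, (r : ℕ) ∈ C.lgens → ∀ t : K, t ^ q = t → X hW.good r t ∈ H :=
    fun r hr => deriveQ_has hC hW hwl hw hneg' C.cert [C.rootP] (by simpa using hll _ hP)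
      (fun r' hr' => by
        obtain rfl : r' = P := Fin.ext (List.mem_singleton.1 hr')
        exact hPall) r (hcert _ hr)
  refine genSubgroup_words_le hW hlong hll fun T hT t => ?_
  obtain ⟨i, hi, rfl⟩ := List.getElem_of_mem hT
  simp only [List.all_eq_true] at hmoves
  refine moves_has hW hneg hq2 (fun a b u v hab => ?_) hw hlong hAall (List.getElem_mem hi)
    (mv := C.moves[i]'(hlen ▸ hi)) (hmoves (C.sgens[i], C.moves[i]'(hlen ▸ hi)) ?_) t
  · have := hsc _ hab
    simp only [commutesAll, List.all_cons, List.all_nil, Bool.and_true, Bool.and_eq_true] at this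
    exact commute_wordGL hC hW this.1.2 u v
  · exact List.mem_iff_getElem.2 ⟨i, by simp [List.length_zip, hi, hlen ▸ hi], by simp⟩

end CfsgLib.ChevGen
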